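import Mathlib
import Cfsg.Prelude.Def_Blocks
import Cfsg.Prelude.Def_BlockRank
import Cfsg.Agent.H648.HeightForm
set_option linter.all false

/-!
# The integers `p ^ d * [ψ⁰, φ]` of a block for arbitrary members

`B` is a `p`-block of defect `d`, `χ ∈ B` has height zero, `ψ, φ ∈ B` are arbitrary.

* `exists_form`: one integral symmetric matrix `a` on the irreducible characters with
  `a ψ φ = p ^ d * [ψ⁰, φ]` for `ψ ∈ B`.
* `diag_dvd`: if `ψ` has positive height `h`, then `p ^ (h + 1)` divides `p ^ d * [ψ⁰, ψ]`.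
* `height_le`: heights are `0` for `d ≤ 1` and at most `d - 2` for `d ≥ 2`.
* `count_of_pos_height`: if there is a member of positive height, `2 * #B ≤ p ^ (2 * d - 2)`.
-/

set_option autoImplicit false

namespace Cfsg.Agent.H657.BrauerFeit

open Cfsg
open scoped ComplexConjugate
open Cfsg.Agent
open Cfsg.Agent.H646.RegInner
open Cfsg.Agent.H648.HeightForm

variable {G : Type*} [Group G] [Fintype G] {p : ℕ} {M : Ideal AlgInt}

omit [Fintype G] in
theorem sameBlock_of_mem [M.IsPrime] {B : Set (IrrCharacter G)} (hB : IsPBlock M B)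
    {χ ψ : IrrCharacter G} (hχ : χ ∈ B) (hψ : ψ ∈ B) :
    SameBlock M (χ : G → ℂ) (ψ : G → ℂ) := by
  obtain ⟨χ₀, rfl⟩ := hB
  intro g
  have h1 : MemLocalIdeal M (centralChar (χ₀ : G → ℂ) g - centralChar (χ : G → ℂ) g) := hχ g
  have h2 : MemLocalIdeal M (centralChar (χ₀ : G → ℂ) g - centralChar (ψ : G → ℂ) g) := hψ g
  exact Blocks.Local.memLocalIdeal_sub_trans (Blocks.Local.memLocalIdeal_sub_comm h1) h2

/-- If `ψ ∈ B` has positive height `h`, then `p ^ (h + 1)` divides `p ^ d * [ψ⁰, ψ]`. -/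
theorem diag_dvd [Fact p.Prime] (hM : IsPModular p M) {B : Set (IrrCharacter G)}
    (hB : IsPBlock M B) {ψ : IrrCharacter G} (hψ : ψ ∈ B)
    (hpos : 0 < blockHeight p B (ψ : G → ℂ)) {n : ℤ}
    (hn : ((p ^ blockDefect p B : ℕ) : ℂ) *
      classInner (pRegularPart p (ψ : G → ℂ)) (ψ : G → ℂ) = n) :
    (p : ℤ) ^ (blockHeight p B (ψ : G → ℂ) + 1) ∣ n := by
  have hp : p.Prime := Fact.out
  have hP : M.IsPrime := hM.2.1.isPrime
  obtain ⟨χ, hχ, h0⟩ := exists_height_zero (p := p) hB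
  -- the scaled form of `χ, ψ` lies in the local ideal
  have h1 : MemLocalIdeal M ((Nat.card G : ℂ) / (χ : G → ℂ) 1 *
      classInner (pRegularPart p (χ : G → ℂ)) (ψ : G → ℂ)) := by
    obtain ⟨m, hm, ⟨k, hk⟩, -⟩ := exists_int_height hM hB hχ h0 hψ
    obtain ⟨u, hu, hu', hu0, he⟩ := scaled_eq (p := p) hM hχ
      (classInner (pRegularPart p (χ : G → ℂ)) (ψ : G → ℂ))
    rw [h0, pow_zero, Nat.cast_one, one_mul] at he
    have h2 : MemLocalIdeal M (m : ℂ) := by
      rw [Blocks.Local.memLocalIdeal_intCast_iff hM, hk]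
      exact (dvd_pow_self _ hpos.ne').mul_right _
    have h3 := Blocks.Local.memLocalIdeal_mul_left hu' (hm ▸ h2)
    rwa [he, ← mul_assoc, inv_mul_cancel₀ hu0, one_mul] at h3
  have h2 : MemLocalIdeal M ((Nat.card G : ℂ) / (ψ : G → ℂ) 1 *
      classInner (pRegularPart p (ψ : G → ℂ)) (ψ : G → ℂ)) :=
    (Blocks.Local.memLocalIdeal_iff_of_sub
      (form_congr (p := p) (sameBlock_of_mem hB hψ hχ) ψ)).2 h1
  obtain ⟨u, hu, hu', hu0, he⟩ := scaled_eq (p := p) hM hψ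
    (classInner (pRegularPart p (ψ : G → ℂ)) (ψ : G → ℂ))
  have hint : MemLocalRing M ((Nat.card G : ℂ) / (ψ : G → ℂ) 1 *
      classInner (pRegularPart p (ψ : G → ℂ)) (ψ : G → ℂ)) :=
    Blocks.Local.memLocalRing_of_isIntegral (isIntegral_card_div ψ ψ)
  set h := blockHeight p B (ψ : G → ℂ) with hh
  set w : ℂ := u * ((Nat.card G : ℂ) / (ψ : G → ℂ) 1 *
      classInner (pRegularPart p (ψ : G → ℂ)) (ψ : G → ℂ)) with hw
  have hw1 : MemLocalRing M w := Blocks.Local.memLocalRing_mul hu hint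
  have hw2 : MemLocalIdeal M w := Blocks.Local.memLocalIdeal_mul_left hu h2
  rw [he] at hn
  obtain ⟨m, hm⟩ : ∃ m : ℤ, w = m := exists_int_of_memLocalRing hM hn hw1
  have hnm : n = (p : ℤ) ^ h * m := by
    rw [hm] at hn
    push_cast at hn
    exact_mod_cast hn.symm
  rw [hm, Blocks.Local.memLocalIdeal_intCast_iff hM] at hw2
  rw [hnm, pow_succ]
  exact mul_dvd_mul_left _ hw2

/-- The integral symmetric matrix `a ψ φ = p ^ d * [ψ⁰, φ]` of a block and its properties. -/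
theorem exists_form [Fact p.Prime] (hM : IsPModular p M) {B : Set (IrrCharacter G)}
    (hB : IsPBlock M B) [Fintype (IrrCharacter G)] [DecidablePred (· ∈ B)] :
    ∃ a : IrrCharacter G → IrrCharacter G → ℤ,
      (∀ ψ ∈ B, ∀ φ : IrrCharacter G, ((p ^ blockDefect p B : ℕ) : ℂ) *
        classInner (pRegularPart p (ψ : G → ℂ)) (φ : G → ℂ) = a ψ φ) ∧
      (∀ ψ ∈ B, ∀ φ ∈ B, a ψ φ = a φ ψ) ∧
      (∀ ψ ∈ B, ∑ φ : IrrCharacter G with φ ∈ B, a ψ φ ^ 2 =
        (p : ℤ) ^ blockDefect p B * a ψ ψ) ∧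
      (∀ ψ ∈ B, ∀ φ ∈ B, blockHeight p B (ψ : G → ℂ) = 0 →
        (p : ℤ) ^ blockHeight p B (φ : G → ℂ) ∣ a ψ φ ∧
        ¬ (p : ℤ) ^ (blockHeight p B (φ : G → ℂ) + 1) ∣ a ψ φ) ∧
      (∀ ψ ∈ B, 0 < blockHeight p B (ψ : G → ℂ) →
        (p : ℤ) ^ (blockHeight p B (ψ : G → ℂ) + 1) ∣ a ψ ψ) := by
  classical
  have hex : ∀ ψ φ : IrrCharacter G, ∃ n : ℤ, ψ ∈ B → (((p ^ blockDefect p B : ℕ) : ℂ) *
      classInner (pRegularPart p (ψ : G → ℂ)) (φ : G → ℂ) = n) := by
    intro ψ φ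
    by_cases hψ : ψ ∈ B
    · obtain ⟨n, hn⟩ := exists_int_pow_defect hM hψ φ
      exact ⟨n, fun _ => hn⟩
    · exact ⟨0, fun h => absurd h hψ⟩
  choose a ha using hex
  refine ⟨a, fun ψ hψ φ => ha ψ φ hψ, ?_, ?_, ?_, ?_⟩
  · intro ψ hψ φ hφ
    have h1 := ha ψ φ hψ
    have h2 := ha φ ψ hφ
    rw [form_symm] at h1
    rw [h1] at h2
    exact_mod_cast h2
  · intro ψ hψ
    have h1 := sum_sq hM hB hψ
    have h2 : ((∑ φ : IrrCharacter G with φ ∈ B, a ψ φ ^ 2 : ℤ) : ℂ) =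
        (((p : ℤ) ^ blockDefect p B * a ψ ψ : ℤ) : ℂ) := by
      push_cast
      rw [← ha ψ ψ hψ, ← h1]
      push_cast
      rw [← mul_assoc, ← sq, Finset.mul_sum]
      refine Finset.sum_congr rfl fun φ _ => ?_
      rw [← ha ψ φ hψ]
      push_cast
      ring
    exact_mod_cast h2
  · intro ψ hψ φ hφ h0
    obtain ⟨n, hn, h1, h2⟩ := exists_int_height hM hB hψ h0 hφ
    have h3 : a ψ φ = n := by
      have := ha ψ φ hψ
      rw [hn] at this
      exact_mod_cast this.symm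
    rw [h3]
    exact ⟨h1, h2⟩
  · intro ψ hψ hpos
    exact diag_dvd hM hB hψ hpos (ha ψ ψ hψ)

/-- A positive height `h` satisfies `h + 2 ≤ d`. -/
theorem height_add_two_le [Fact p.Prime] (hM : IsPModular p M) {B : Set (IrrCharacter G)}
    (hB : IsPBlock M B) {ψ : IrrCharacter G} (hψ : ψ ∈ B)
    (hpos : 0 < blockHeight p B (ψ : G → ℂ)) :
    blockHeight p B (ψ : G → ℂ) + 2 ≤ blockDefect p B := by
  classical
  have hp : p.Prime := Fact.out
  have hP : M.IsPrime := hM.2.1.isPrime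
  have hfin : Finite (IrrCharacter G) := S0909.finite_irr
  have := Fintype.ofFinite (IrrCharacter G)
  obtain ⟨a, -, hsymm, hsq, hz, hd⟩ := exists_form hM hB
  obtain ⟨χ, hχ, h0⟩ := exists_height_zero (p := p) hB
  have hne : χ ≠ ψ := by
    rintro rfl
    omega
  have h1 := hz χ hχ ψ hψ h0
  have hne0 : a ψ χ ≠ 0 := by
    intro h
    apply h1.2
    rw [hsymm χ hχ ψ hψ, h]
    exact dvd_zero _
  have h2 : a ψ ψ ^ 2 + a ψ χ ^ 2 ≤ (p : ℤ) ^ blockDefect p B * a ψ ψ := by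
    rw [← hsq ψ hψ]
    have hsub : ({ψ, χ} : Finset (IrrCharacter G)) ⊆ Finset.univ.filter (· ∈ B) := by
      intro x hx
      simp only [Finset.mem_insert, Finset.mem_singleton] at hx
      rcases hx with rfl | rfl <;> simpa
    calc a ψ ψ ^ 2 + a ψ χ ^ 2 = ∑ φ ∈ ({ψ, χ} : Finset (IrrCharacter G)), a ψ φ ^ 2 := by
          rw [Finset.sum_pair hne.symm]
      _ ≤ _ := Finset.sum_le_sum_of_subset_of_nonneg hsub fun _ _ _ => sq_nonneg _
  have h3 : 0 < a ψ χ ^ 2 := by positivity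
  have hppos : (0 : ℤ) < (p : ℤ) ^ blockDefect p B := by
    have : (0 : ℤ) < p := by exact_mod_cast hp.pos
    positivity
  have h4 : 0 < a ψ ψ := by
    by_contra hcon
    push Not at hcon
    nlinarith [sq_nonneg (a ψ ψ)]
  have h5 : a ψ ψ < (p : ℤ) ^ blockDefect p B := by
    by_contra hcon
    push Not at hcon
    nlinarith
  have h6 := Int.le_of_dvd h4 (hd ψ hψ hpos)
  have h7 : (p : ℤ) ^ (blockHeight p B (ψ : G → ℂ) + 1) < (p : ℤ) ^ blockDefect p B :=
    lt_of_le_of_lt h6 h5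
  have h8 : blockHeight p B (ψ : G → ℂ) + 1 < blockDefect p B := by
    have h9 : p ^ (blockHeight p B (ψ : G → ℂ) + 1) < p ^ blockDefect p B := by
      exact_mod_cast h7
    exact (Nat.pow_lt_pow_iff_right hp.one_lt).mp h9
  omega

/-- **Brauer-Feit.** If the block has a member of positive height then
`2 * #B ≤ p ^ (2 * d - 2)`. -/
theorem count_of_pos_height [Fact p.Prime] (hM : IsPModular p M) {B : Set (IrrCharacter G)}
    (hB : IsPBlock M B) {ψ : IrrCharacter G} (hψ : ψ ∈ B)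
    (hpos : 0 < blockHeight p B (ψ : G → ℂ)) :
    2 * Nat.card B ≤ p ^ (2 * blockDefect p B - 2) := by
  classical
  have hp : p.Prime := Fact.out
  have hP : M.IsPrime := hM.2.1.isPrime
  have hfin : Finite (IrrCharacter G) := S0909.finite_irr
  have := Fintype.ofFinite (IrrCharacter G)
  have hd2 := height_add_two_le hM hB hψ hpos
  obtain ⟨a, -, hsymm, hsq, hz, -⟩ := exists_form hM hB
  obtain ⟨χ, hχ, h0⟩ := exists_height_zero (p := p) hB
  have hp1 : (1 : ℤ) ≤ p := by exact_mod_cast hp.one_lt.le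
  -- lower bound for the squares
  have hlow : ∀ θ ∈ B, ∀ φ ∈ B, blockHeight p B (θ : G → ℂ) = 0 →
      0 < blockHeight p B (φ : G → ℂ) → (p : ℤ) ^ 2 ≤ a θ φ ^ 2 := by
    intro θ hθ φ hφ hθ0 hφ0
    obtain ⟨⟨m, hm⟩, h2⟩ := hz θ hθ φ hφ hθ0
    have hm0 : m ≠ 0 := by
      rintro rfl
      exact h2 (by rw [hm]; simp)
    have hm2 : 1 ≤ m ^ 2 := by
      have := sq_pos_of_ne_zero hm0
      omega
    have h3 : (p : ℤ) ^ 2 ≤ ((p : ℤ) ^ blockHeight p B (φ : G → ℂ)) ^ 2 := by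
      rw [← pow_mul]
      exact pow_le_pow_right₀ hp1 (by omega)
    rw [hm, mul_pow]
    nlinarith [sq_nonneg (p : ℤ)]
  -- the two counts
  have key : ∀ θ ∈ B, ∀ S : Finset (IrrCharacter G), (∀ φ ∈ S, φ ∈ B) → θ ∉ S →
      (∀ φ ∈ S, (p : ℤ) ^ 2 ≤ a θ φ ^ 2) →
      4 * ((p : ℤ) ^ 2 * S.card) ≤ (p : ℤ) ^ (2 * blockDefect p B) := by
    intro θ hθ S hS hθS hle
    have h1 : (p : ℤ) ^ 2 * S.card ≤ ∑ φ ∈ S, a θ φ ^ 2 := by
      calc (p : ℤ) ^ 2 * S.card = ∑ _φ ∈ S, (p : ℤ) ^ 2 := by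
            rw [Finset.sum_const, nsmul_eq_mul, mul_comm]
        _ ≤ _ := Finset.sum_le_sum hle
    have h2 : a θ θ ^ 2 + ∑ φ ∈ S, a θ φ ^ 2 ≤ (p : ℤ) ^ blockDefect p B * a θ θ := by
      rw [← hsq θ hθ, ← Finset.sum_insert (f := fun φ => a θ φ ^ 2) hθS]
      refine Finset.sum_le_sum_of_subset_of_nonneg ?_ fun _ _ _ => sq_nonneg _
      intro x hx
      rw [Finset.mem_insert] at hx
      rcases hx with rfl | hx
      · simpa
      · simpa using hS x hx
    have h3 : (p : ℤ) ^ (2 * blockDefect p B) = ((p : ℤ) ^ blockDefect p B) ^ 2 := by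
      rw [mul_comm, pow_mul]
    rw [h3]
    nlinarith [sq_nonneg ((p : ℤ) ^ blockDefect p B - 2 * a θ θ)]
  set S0 : Finset (IrrCharacter G) := Finset.univ.filter
    (fun φ => φ ∈ B ∧ blockHeight p B (φ : G → ℂ) = 0) with hS0
  set S1 : Finset (IrrCharacter G) := Finset.univ.filter
    (fun φ => φ ∈ B ∧ 0 < blockHeight p B (φ : G → ℂ)) with hS1
  have k1 := key χ hχ S1 (by intro φ hφ; simp [hS1] at hφ; exact hφ.1)
    (by simp [hS1, h0]) (by
      intro φ hφ
      simp only [hS1, Finset.mem_filter, Finset.mem_univ, true_and] at hφ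
      exact hlow χ hχ φ hφ.1 h0 hφ.2)
  have k0 := key ψ hψ S0 (by intro φ hφ; simp [hS0] at hφ; exact hφ.1)
    (by simp [hS0]; intro _; omega) (by
      intro φ hφ
      simp only [hS0, Finset.mem_filter, Finset.mem_univ, true_and] at hφ
      rw [hsymm ψ hψ φ hφ.1]
      exact hlow φ hφ.1 ψ hψ hφ.2 hpos)
  have hcard : Nat.card B = S0.card + S1.card := by
    rw [← Finset.card_union_of_disjoint]
    · have : (S0 ∪ S1) = Finset.univ.filter (· ∈ B) := by
        ext φ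
        simp only [hS0, hS1, Finset.mem_union, Finset.mem_filter, Finset.mem_univ, true_and]
        constructor
        · rintro (h | h)
          · exact h.1
          · exact h.1
        · intro h
          rcases Nat.eq_zero_or_pos (blockHeight p B (φ : G → ℂ)) with h' | h'
          · exact Or.inl ⟨h, h'⟩
          · exact Or.inr ⟨h, h'⟩
      rw [this, Nat.card_eq_fintype_card, Fintype.card_subtype]
    · rw [Finset.disjoint_left]
      intro φ h1 h2
      simp only [hS0, hS1, Finset.mem_filter, Finset.mem_univ, true_and] at h1 h2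
      omega
  have hfinal : (p : ℤ) ^ 2 * (2 * Nat.card B) ≤ (p : ℤ) ^ 2 * (p : ℤ) ^
      (2 * blockDefect p B - 2) := by
    rw [← pow_add, show 2 + (2 * blockDefect p B - 2) = 2 * blockDefect p B by omega, hcard]
    push_cast
    nlinarith
  have hp2 : (0 : ℤ) < (p : ℤ) ^ 2 := by positivity
  have := le_of_mul_le_mul_left hfinal hp2
  exact_mod_cast this

end Cfsg.Agent.H657.BrauerFeit
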