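import Cfsg.Agent.H657.BrauerChar
import Cfsg.Agent.Blocks.ClassScalar
import Cfsg.Agent.Blocks.Central
import Cfsg.Agent.H608.BlockRank
set_option linter.all false

-- part: H657/IBr
section
/-!
# Irreducible Brauer characters

`IBr V G`: the irreducible representations of `G` over the residue field of `V`, given by their trace
functions; `phi p i`: the Brauer character of `i : IBr V G` (extended by zero).

* `linearIndependent_ibr`, `linearIndependent_phi`;
* `exists_decomp`: the restriction of an irreducible character `χ` to the `p`-regular elements is a sum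
  of Brauer characters `phi p i` lying under `χ` (`Under i χ`: the central characters agree).
-/

set_option autoImplicit false

namespace Cfsg.Agent.H657

open Cfsg IsLocalRing Module

attribute [local instance] Above.isAlgClosed

variable {V : ValuationSubring ℂ} {G : Type*} [Group G]

/-- Trace functions of irreducible representations over the residue field. -/
def IsIrrTrace (V : ValuationSubring ℂ) (G : Type*) [Group G] (τ : G → ResidueField V) : Prop :=
  ∃ (n : ℕ) (σ : Representation (ResidueField V) G (Fin n → ResidueField V)), σ.IsIrreducible ∧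
    ∀ g, LinearMap.trace (ResidueField V) _ (σ g) = τ g

/-- The irreducible representations over the residue field, given by their traces. -/
abbrev IBr (V : ValuationSubring ℂ) (G : Type*) [Group G] := {τ : G → ResidueField V // IsIrrTrace V G τ}

/-- The degree. -/
noncomputable def IBr.deg (i : IBr V G) : ℕ := i.2.choose

/-- A representation with the given trace. -/
noncomputable def IBr.rep (i : IBr V G) :
    Representation (ResidueField V) G (Fin i.deg → ResidueField V) := i.2.choose_spec.choose

theorem IBr.rep_irr (i : IBr V G) : i.rep.IsIrreducible := i.2.choose_spec.choose_spec.1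

theorem IBr.trace_rep (i : IBr V G) (g : G) :
    LinearMap.trace (ResidueField V) _ (i.rep g) = i.1 g := i.2.choose_spec.choose_spec.2 g

theorem equiv_of_trace {K : Type*} [Field K] [IsAlgClosed K] {n n' : ℕ}
    (σ : Representation K G (Fin n → K)) (σ' : Representation K G (Fin n' → K))
    (h1 : σ.IsIrreducible) (h2 : σ'.IsIrreducible)
    (h : ∀ g, LinearMap.trace K _ (σ g) = LinearMap.trace K _ (σ' g)) :
    ∃ e : (Fin n → K) ≃ₗ[K] (Fin n' → K), ∀ g w, e (σ g w) = σ' g (e w) := by
  by_contra hcon
  have hne : IsEmpty (Representation.Equiv σ σ') := ⟨fun e => hcon ⟨e.toLinearEquiv, fun g w =>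
    LinearMap.congr_fun (e.isIntertwining' g) w⟩⟩
  have hne' : IsEmpty (Representation.Equiv σ' σ) := ⟨fun e => hcon ⟨e.toLinearEquiv.symm,
    fun g w => by
      rw [LinearEquiv.symm_apply_eq]
      have := LinearMap.congr_fun (e.isIntertwining' g) (e.toLinearEquiv.symm w)
      have h3 : e.toLinearEquiv (σ' g (e.toLinearEquiv.symm w)) =
        σ g (e.toLinearEquiv (e.toLinearEquiv.symm w)) := this
      rw [h3, LinearEquiv.apply_symm_apply]⟩⟩
  let N : Bool → ℕ := fun b => match b with
    | true => n
    | false => n'
  let ρ : ∀ b : Bool, Representation K G (Fin (N b) → K) := fun b => match b with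
    | true => σ
    | false => σ'
  have hlin := Blocks.ModularTraces.linearIndependent_trace ρ
    (fun b => match b with
      | true => h1
      | false => h2)
    (fun b b' => match b, b' with
      | true, true => fun h => absurd rfl h
      | true, false => fun _ => hne
      | false, true => fun _ => hne'
      | false, false => fun h => absurd rfl h)
  have : true = false := hlin.injective (funext fun g => h g)
  exact absurd this (by decide)

theorem linearIndependent_ibr :
    LinearIndependent (ResidueField V) (fun i : IBr V G => (i.1 : G → ResidueField V)) := by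
  rw [linearIndependent_iff_finset_linearIndependent]
  intro s
  have h := Blocks.ModularTraces.linearIndependent_trace (fun i : s => i.1.rep)
    (fun i => i.1.rep_irr) (fun i j hij => ⟨fun e => hij (by
      apply Subtype.ext
      apply Subtype.ext
      funext g
      rw [← i.1.trace_rep g, ← j.1.trace_rep g]
      have h1 : j.1.rep g = e.toLinearEquiv.conj (i.1.rep g) := by
        apply LinearMap.ext
        intro v
        rw [LinearEquiv.conj_apply_apply]
        have := LinearMap.congr_fun (e.isIntertwining' g) (e.toLinearEquiv.symm v)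
        have h3 : e.toLinearEquiv (i.1.rep g (e.toLinearEquiv.symm v)) =
          j.1.rep g (e.toLinearEquiv (e.toLinearEquiv.symm v)) := this
        rw [h3, LinearEquiv.apply_symm_apply]
      rw [h1, LinearMap.trace_conj'])⟩)
  convert h using 1
  funext i
  funext g
  exact (i.1.trace_rep g).symm

instance finite_ibr [Finite G] : Finite (IBr V G) :=
  (linearIndependent_ibr (V := V) (G := G)).finite

open Classical in
/-- The Brauer character of `i`, extended by zero. -/
noncomputable def phi (p : ℕ) (i : IBr V G) : G → ℂ :=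
  fun g => if IsPRegular p g then bc p i.rep g else 0

theorem phi_of {p : ℕ} (i : IBr V G) {g : G} (h : IsPRegular p g) : phi p i g = bc p i.rep g := by
  classical
  exact if_pos h

theorem phi_of_not {p : ℕ} (i : IBr V G) {g : G} (h : ¬ IsPRegular p g) : phi p i g = 0 := by
  classical
  exact if_neg h

theorem isPRegular_conj {p : ℕ} (g h : G) : IsPRegular p (h * g * h⁻¹) ↔ IsPRegular p g := by
  unfold IsPRegular
  have := (MulAut.conj h).orderOf_eq g
  rw [MulAut.conj_apply] at this
  rw [this]

theorem phi_isClassFunction (p : ℕ) (i : IBr V G) : IsClassFunction G (phi p i) := by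
  intro g h
  by_cases hg : IsPRegular p g
  · rw [phi_of i hg, phi_of i ((isPRegular_conj g h).2 hg), bc_conj]
  · rw [phi_of_not i hg, phi_of_not i (fun h' => hg ((isPRegular_conj g h).1 h'))]

/-- The Brauer character of `i` is the Brauer character of each representation with trace `i`. -/
theorem phi_eq_bc {p : ℕ} (i : IBr V G) {n : ℕ}
    (σ : Representation (ResidueField V) G (Fin n → ResidueField V)) (hσ : σ.IsIrreducible)
    (h : ∀ g, LinearMap.trace (ResidueField V) _ (σ g) = i.1 g) {g : G} (hg : IsPRegular p g) :
    phi p i g = bc p σ g := by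
  obtain ⟨e, he⟩ := equiv_of_trace i.rep σ i.rep_irr hσ (fun g => by rw [i.trace_rep, h])
  rw [phi_of i hg]
  exact bc_equiv p _ _ e he g

section char

variable {p : ℕ} [Fact p.Prime] [CharP (ResidueField V) p]

theorem phi_spec (i : IBr V G) {g : G} (hg : IsPRegular p g) :
    ∃ z : V, phi p i g = (z : ℂ) ∧ residue V z = i.1 g := by
  obtain ⟨z, h1, h2⟩ := bc_spec (p := p) i.rep (g := g) hg
  exact ⟨z, by rw [phi_of i hg, h1], by rw [h2, i.trace_rep]⟩

theorem ibr_apply_pPart (i : IBr V G) {x y : G} (hxy : Commute x y) {k : ℕ}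
    (hx : x ^ p ^ k = 1) : i.1 (x * y) = i.1 y := by
  rw [← i.trace_rep, ← i.trace_rep]
  exact Blocks.ModularTraces.trace_eq_of_commute p i.rep hxy hx

/-- **Linear independence of the Brauer characters.** -/
theorem linearIndependent_phi [Finite G] :
    LinearIndependent ℂ (fun i : IBr V G => phi p i) := by
  classical
  have := Fintype.ofFinite (IBr V G)
  rw [Fintype.linearIndependent_iff]
  intro c hc
  by_contra hcon
  push Not at hcon
  obtain ⟨j, hj⟩ := hcon
  have : Nonempty (IBr V G) := ⟨j⟩
  obtain ⟨m, hm⟩ := Finite.exists_max (fun i : IBr V G => V.valuation (c i))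
  have hcm : c m ≠ 0 := by
    intro h0
    have h1 := hm j
    rw [h0, map_zero] at h1
    exact hj ((map_eq_zero _).1 (le_antisymm h1 zero_le))
  have hd : ∀ i, c i / c m ∈ V := by
    intro i
    rw [← V.valuation_le_one_iff, map_div₀]
    exact div_le_one_of_le₀ (hm i) zero_le
  have hsum : ∀ g : G, IsPRegular p g → ∑ i, residue V ⟨c i / c m, hd i⟩ * i.1 g = 0 := by
    intro g hg
    have h1 : ∑ i, c i / c m * phi p i g = 0 := by
      have h2 := congrFun hc g
      rw [Finset.sum_apply] at h2
      have h3 : ∑ i, c i / c m * phi p i g = (∑ i, (c i • phi p i) g) / c m := by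
        rw [Finset.sum_div]
        refine Finset.sum_congr rfl fun i _ => ?_
        rw [Pi.smul_apply, smul_eq_mul]
        ring
      rw [h3, h2, Pi.zero_apply, zero_div]
    choose z hz1 hz2 using fun i : IBr V G => phi_spec (p := p) i hg
    have h4 : ∑ i, (⟨c i / c m, hd i⟩ : V) * z i = 0 := by
      apply Subtype.ext
      push_cast
      rw [← h1]
      exact Finset.sum_congr rfl fun i _ => by rw [← hz1]
    have h5 := congrArg (residue V) h4
    rw [map_sum, map_zero] at h5
    rw [← h5]
    exact Finset.sum_congr rfl fun i _ => by rw [map_mul, hz2]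
  have hsum' : ∑ i, residue V ⟨c i / c m, hd i⟩ • (i.1 : G → ResidueField V) = 0 := by
    funext g
    obtain ⟨x, y, hxy, hcomm, ⟨k, hk⟩, hy⟩ := Blocks.PPart.exists_isPPart p g
    have hx : x ^ p ^ k = 1 := by rw [← hk, pow_orderOf_eq_one]
    rw [Finset.sum_apply, Pi.zero_apply, ← hsum y hy]
    refine Finset.sum_congr rfl fun i _ => ?_
    rw [Pi.smul_apply, smul_eq_mul, ← hxy, ibr_apply_pPart i hcomm hx]
  have h6 := Fintype.linearIndependent_iff.1 (linearIndependent_ibr (V := V) (G := G)) _ hsum' m
  have h7 : (⟨c m / c m, hd m⟩ : V) = 1 := Subtype.ext (by simp [div_self hcm])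
  rw [h7, map_one] at h6
  exact one_ne_zero h6

end char

/-! ### Central characters -/

section central

variable [Finite G]

omit [Finite G] in
open Classical in
theorem exists_scalar {K : Type*} [Field K] [IsAlgClosed K] {W : Type*} [AddCommGroup W]
    [Module K W] [FiniteDimensional K W] [Fintype G]
    (σ : Representation K G W) (hσ : σ.IsIrreducible) (g : G) :
    ∃ c : K, ∑ x : G, (if IsConj g x then (1 : K) else 0) • σ x = c • (1 : Module.End K W) := by
  have hcomm : ∀ h : G, (∑ x : G, (if IsConj g x then (1 : K) else 0) • σ x) * σ h =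
      σ h * (∑ x : G, (if IsConj g x then (1 : K) else 0) • σ x) := by
    intro h
    rw [Finset.sum_mul, Finset.mul_sum]
    refine Fintype.sum_equiv (MulAut.conj h⁻¹).toEquiv _ _ ?_
    intro x
    have h1 : IsConj g ((MulAut.conj h⁻¹).toEquiv x) ↔ IsConj g x := by
      have h2 : IsConj x (h⁻¹ * x * h⁻¹⁻¹) := isConj_iff.mpr ⟨h⁻¹, rfl⟩
      exact ⟨fun h3 => h3.trans h2.symm, fun h3 => h3.trans h2⟩
    simp only [h1]
    simp only [MulEquiv.toEquiv_eq_coe, MulEquiv.coe_toEquiv, MulAut.conj_apply]
    rw [smul_mul_assoc, mul_smul_comm, ← map_mul, ← map_mul]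
    congr 2
    group
  let F : Representation.IntertwiningMap σ σ := ⟨_, hcomm⟩
  obtain ⟨c, hc⟩ := (Representation.IsIrreducible.algebraMap_intertwiningMap_bijective_of_isAlgClosed
    (ρ := σ)).2 F
  refine ⟨c, ?_⟩
  have h := congrArg (fun T : Representation.IntertwiningMap σ σ => T.toLinearMap) hc
  have h' : (algebraMap K (Representation.IntertwiningMap σ σ) c).toLinearMap =
    ∑ x : G, (if IsConj g x then (1 : K) else 0) • σ x := h
  rw [← h', Representation.IntertwiningMap.algebraMap_apply]
  rfl

omit [Finite G] in
theorem finrank_ne_zero' {K : Type*} [Field K] {W : Type*} [AddCommGroup W] [Module K W]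
    [FiniteDimensional K W] (σ : Representation K G W) (hσ : σ.IsIrreducible) :
    Module.finrank K W ≠ 0 := by
  intro h0
  have hsub : Subsingleton W := Module.finrank_zero_iff.mp h0
  have hnt : Nontrivial (Subrepresentation σ) := inferInstance
  obtain ⟨A, B, hAB⟩ := hnt
  apply hAB
  ext x
  have : x = 0 := Subsingleton.elim _ _
  rw [this]
  exact ⟨fun _ => B.toSubmodule.zero_mem, fun _ => A.toSubmodule.zero_mem⟩

open Classical in
/-- The central character of `i : IBr V G`. -/
noncomputable def IBr.cc (i : IBr V G) (g : G) : ResidueField V :=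
  haveI := Fintype.ofFinite G
  (exists_scalar i.rep i.rep_irr g).choose

open Classical in
theorem IBr.cc_spec [ft : Fintype G] (i : IBr V G) (g : G) :
    ∑ x : G, (if IsConj g x then (1 : ResidueField V) else 0) • i.rep x =
      i.cc g • (1 : Module.End (ResidueField V) (Fin i.deg → ResidueField V)) := by
  have e : ft = Fintype.ofFinite G := Subsingleton.elim _ _
  subst e
  letI := Fintype.ofFinite G
  exact (exists_scalar i.rep i.rep_irr g).choose_spec

/-- `i` lies under `χ`: the central characters agree modulo the maximal ideal of `V`. -/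
def Under (i : IBr V G) (χ : G → ℂ) : Prop :=
  ∀ g, ∃ z : V, (z : ℂ) = centralChar χ g ∧ residue V z = i.cc g

theorem smul_one_injective {K : Type*} [Field K] {W : Type*} [AddCommGroup W] [Module K W]
    [Nontrivial W] {a b : K} (h : a • (1 : Module.End K W) = b • (1 : Module.End K W)) : a = b := by
  obtain ⟨v, hv⟩ := exists_ne (0 : W)
  have := LinearMap.congr_fun h v
  simp only [LinearMap.smul_apply, Module.End.one_apply] at this
  exact smul_left_injective K hv this

omit [Finite G] in
open Classical in
theorem sum_aux2 {K : Type*} [Field K] {U : Type*} [AddCommGroup U] [Module K U] [Fintype G]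
    (ρ : Representation K G U) (t c : K) (g : G)
    (hc : ∑ x : G, (if IsConj g x then (1 : K) else 0) • ρ x = c • (1 : Module.End K U)) :
    ∑ h, ((if h = 1 then t else 0) - (if IsConj g h then (1 : K) else 0)) • ρ h =
      (t - c) • (1 : Module.End K U) := by
  have : t • (1 : Module.End K U) = ∑ h, (if h = 1 then t else 0) • ρ h := by
    rw [Finset.sum_eq_single 1]
    · rw [if_pos rfl, map_one]
    · intro b _ hb
      rw [if_neg hb, zero_smul]
    · intro h
      exact absurd (Finset.mem_univ _) h
  rw [sub_smul, ← hc, this, ← Finset.sum_sub_distrib]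
  exact Finset.sum_congr rfl fun h _ => sub_smul _ _ _

open Classical in
/-- **The Brauer constituents of an irreducible character.** -/
theorem exists_decomp {p : ℕ} {M : Ideal AlgInt} (hM : IsPModular p M) (hV : Above M V)
    {χ : G → ℂ} (hχ : IsIrrCharacter G χ) :
    ∃ (m : ℕ) (idx : Fin m → IBr V G), (∀ l, Under (idx l) χ) ∧
      ∀ g, IsPRegular p g → χ g = ∑ l, phi p (idx l) g := by
  have : Fact p.Prime := ⟨hM.1⟩
  have : CharP (ResidueField V) p := hV.charP hM
  have := Fintype.ofFinite G
  obtain ⟨N, ρ, hρ, rfl⟩ := hχ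
  obtain ⟨m, n, σ, hσ, hred⟩ := Reduce.exists_red V ρ
  let idx : Fin m → IBr V G := fun l => ⟨fun g => LinearMap.trace (ResidueField V) _ (σ l g),
    n l, σ l, hσ l, fun g => rfl⟩
  refine ⟨m, idx, fun l g => ?_, fun g hg => ?_⟩
  · -- central characters
    have hω : centralChar ρ.character g ∈ V := by
      exact hV.mem ⟨centralChar ρ.character g, Blocks.Central.isIntegral_centralChar
        ⟨N, ρ, hρ, rfl⟩ g⟩
    refine ⟨⟨_, hω⟩, rfl, ?_⟩
    -- the scalar for `σ l`
    obtain ⟨e, he⟩ := equiv_of_trace (idx l).rep (σ l) (idx l).rep_irr (hσ l)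
      (fun g => by rw [(idx l).trace_rep])
    have hsc : ∑ x : G, (if IsConj g x then (1 : ResidueField V) else 0) • σ l x =
        (idx l).cc g • (1 : Module.End (ResidueField V) (Fin (n l) → ResidueField V)) := by
      apply LinearMap.ext
      intro w
      have h1 := LinearMap.congr_fun ((idx l).cc_spec g) (e.symm w)
      have h2 := congrArg e h1
      simp only [LinearMap.sum_apply, LinearMap.smul_apply, map_sum, map_smul, he,
        Module.End.one_apply, LinearEquiv.apply_symm_apply] at h2
      simp only [LinearMap.sum_apply, LinearMap.smul_apply, Module.End.one_apply]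
      exact h2
    obtain ⟨t, ht⟩ := IsLocalRing.residue_surjective (R := V) ((idx l).cc g)
    obtain ⟨d, hd1, hd2⟩ := hred (fun h => (if h = 1 then t else 0) - (if IsConj g h then 1 else 0))
    have e1 : ∑ h, (((if h = 1 then t else 0) - (if IsConj g h then 1 else 0) : V) : ℂ) • ρ h =
        ((t : ℂ) - centralChar ρ.character g) • (1 : Module.End ℂ (Fin N → ℂ)) := by
      rw [← sum_aux2 ρ _ _ g (Blocks.ClassScalar.sum_class_eq ρ hρ g)]
      refine Finset.sum_congr rfl fun h _ => ?_
      congr 1
      split_ifs <;> simp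
    have e2 : ∑ h, residue V ((if h = 1 then t else 0) - (if IsConj g h then 1 else 0)) • σ l h =
        (0 : Module.End (ResidueField V) (Fin (n l) → ResidueField V)) := by
      have h0 : (0 : Module.End (ResidueField V) (Fin (n l) → ResidueField V)) =
          (residue V t - (idx l).cc g) • 1 := by rw [ht, sub_self, zero_smul]
      rw [h0, ← sum_aux2 (σ l) _ _ g hsc]
      refine Finset.sum_congr rfl fun h _ => ?_
      congr 1
      rw [map_sub, apply_ite (residue V), apply_ite (residue V), map_zero, map_one]
    have hfl := finrank_ne_zero' (σ l) (hσ l)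
    have hd3 : residue V d = 0 := by
      rw [hd2]
      refine Finset.prod_eq_zero (Finset.mem_univ l) ?_
      rw [e2, LinearMap.det_zero, zero_pow hfl]
    rw [e1, LinearMap.det_smul, map_one, mul_one] at hd1
    have hd4 : d = (t - ⟨_, hω⟩) ^ Module.finrank ℂ (Fin N → ℂ) := Subtype.ext (by
      rw [hd1]; push_cast; rfl)
    rw [hd4, map_pow, map_sub] at hd3
    have h9 := pow_eq_zero_iff (finrank_ne_zero' ρ hρ) |>.1 hd3
    rw [sub_eq_zero] at h9
    rw [← h9, ht]
  · have h1 := character_eq_sum_bc ρ σ hred (p := p) (g := g) hg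
    have h2 : ρ.character g = LinearMap.trace ℂ _ (ρ g) := rfl
    rw [h2, h1]
    refine Finset.sum_congr rfl fun l _ => ?_
    exact (phi_eq_bc (idx l) (σ l) (hσ l) (fun g => rfl) hg).symm

end central

end Cfsg.Agent.H657
end

-- part: H657/IBrBlock
section
/-!
# Irreducible Brauer characters and blocks

* `under_sameBlock`, `Under.of_sameBlock`: `i : IBr V G` lies under exactly the members of one block;
* `exists_under`;
* `map_pReg_charSpan`: for a union of blocks `B`, the restrictions of the members of `B` to the
  `p`-regular elements span the same space as the `phi p i`, `i` under a member of `B`;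
* `blockRank_eq_card`: `blockRank p B` is the number of `i : IBr V G` under a member of `B`;
* `exists_secMap`: second main theorem: `(charSpan B).map (secMap p x C_G(x))` is spanned by
  irreducible Brauer characters.
-/

set_option autoImplicit false

namespace Cfsg.Agent.H657

open Cfsg IsLocalRing Module Cfsg.Agent.H608.BlockRank Cfsg.Agent.Blocks.Basic Cfsg.Agent.Blocks.Local

attribute [local instance] Above.isAlgClosed

variable {V : ValuationSubring ℂ} {G : Type*} [Group G] [Finite G] {p : ℕ} {M : Ideal AlgInt}

theorem under_sameBlock (hM : IsPModular p M) (hV : Above M V) {i : IBr V G} {χ ψ : G → ℂ}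
    (hχ : IsIrrCharacter G χ) (hψ : IsIrrCharacter G ψ) (h1 : Under i χ) (h2 : Under i ψ) :
    SameBlock M χ ψ := by
  have hMp := isPrime_of_isPModular hM
  intro g
  obtain ⟨z, hz, hz'⟩ := h1 g
  obtain ⟨w, hw, hw'⟩ := h2 g
  have h3 : MemLocalRing M (centralChar χ g - centralChar ψ g) :=
    memLocalRing_of_isIntegral ((Blocks.Central.isIntegral_centralChar hχ g).sub
      (Blocks.Central.isIntegral_centralChar hψ g))
  rw [← hV.nonunit_iff hM.2.1 h3, ← hz, ← hw]
  have h4 : residue V (z - w) = 0 := by rw [map_sub, hz', hw', sub_self]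
  rw [Above.residue_eq_zero_iff'] at h4
  simpa using h4

theorem Under.of_sameBlock (hM : IsPModular p M) (hV : Above M V) {i : IBr V G} {χ ψ : G → ℂ}
    (hψ : IsIrrCharacter G ψ) (h1 : Under i χ) (h : SameBlock M χ ψ) : Under i ψ := by
  intro g
  obtain ⟨z, hz, hz'⟩ := h1 g
  have hω : centralChar ψ g ∈ V :=
    hV.mem ⟨centralChar ψ g, Blocks.Central.isIntegral_centralChar hψ g⟩
  refine ⟨⟨_, hω⟩, rfl, ?_⟩
  rw [← hz', ← sub_eq_zero, ← map_sub, Above.residue_eq_zero_iff']
  have h2 := hV.nonunit_of_local hM.2.1 (h g)
  rw [V.mem_nonunits_iff] at h2 ⊢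
  rw [← Valuation.map_neg]
  have h3 : -(((⟨centralChar ψ g, hω⟩ : V) - z : V) : ℂ) = centralChar χ g - centralChar ψ g := by
    rw [← hz]
    push_cast
    ring
  rw [h3]
  exact h2

/-- The irreducible Brauer characters under the members of `B`. -/
def ibrUnder (V : ValuationSubring ℂ) (B : Set (IrrCharacter G)) : Set (IBr V G) :=
  {i | ∃ χ ∈ B, Under i (χ : G → ℂ)}

omit [Finite G] in
theorem pReg_phi (i : IBr V G) : pReg p (phi p i) = phi p i := by
  funext g
  by_cases h : IsPRegular p g
  · rw [pReg_of h]
  · rw [pReg_of_not h, phi_of_not i h]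

/-- The restriction of an irreducible character is a combination of the Brauer characters under
it. -/
theorem pReg_mem_span (hM : IsPModular p M) (hV : Above M V) (χ : IrrCharacter G) :
    pReg p (χ : G → ℂ) ∈ Submodule.span ℂ (phi p '' {i : IBr V G | Under i (χ : G → ℂ)}) := by
  obtain ⟨m, idx, h1, h2⟩ := exists_decomp hM hV χ.2
  have h3 : pReg p (χ : G → ℂ) = ∑ l, phi p (idx l) := by
    funext g
    rw [Finset.sum_apply]
    by_cases h : IsPRegular p g
    · rw [pReg_of h, h2 g h]
    · rw [pReg_of_not h]
      exact (Finset.sum_eq_zero fun l _ => phi_of_not _ h).symm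
  rw [h3]
  exact Submodule.sum_mem _ fun l _ => Submodule.subset_span ⟨_, h1 l, rfl⟩

theorem map_pReg_le_span (hM : IsPModular p M) (hV : Above M V) (B : Set (IrrCharacter G)) :
    (charSpan B).map (pReg p) ≤ Submodule.span ℂ (phi p '' ibrUnder V B) := by
  unfold charSpan
  rw [Submodule.map_span, Submodule.span_le]
  rintro _ ⟨_, ⟨χ, hχ, rfl⟩, rfl⟩
  refine Submodule.span_mono (Set.image_mono ?_) (pReg_mem_span hM hV χ)
  exact fun i hi => ⟨χ, hχ, hi⟩

theorem phi_mem_all (i : IBr V G) :
    phi p i ∈ (charSpan (Set.univ : Set (IrrCharacter G))).map (pReg p) := by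
  have := Fintype.ofFinite G
  refine ⟨phi p i, ?_, pReg_phi i⟩
  exact mem_charSpan_of_classInner (phi_isClassFunction p i)
    fun ψ hψ => absurd (Set.mem_univ _) hψ

/-- **The restrictions of the members of a union of blocks span the space of the Brauer
characters under them.** -/
theorem map_pReg_charSpan (hM : IsPModular p M) (hV : Above M V) {B : Set (IrrCharacter G)}
    (hB : IsUnion M B) :
    (charSpan B).map (pReg p) = Submodule.span ℂ (phi p '' ibrUnder V B) := by
  have : Fact p.Prime := ⟨hM.1⟩
  have : CharP (ResidueField V) p := hV.charP hM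
  refine le_antisymm (map_pReg_le_span hM hV B) ?_
  rw [Submodule.span_le]
  rintro _ ⟨i, ⟨χ, hχ, hi⟩, rfl⟩
  have h1 := phi_mem_all (p := p) i
  rw [← Set.union_compl_self B, charSpan_union, Submodule.map_sup] at h1
  obtain ⟨u, hu, v, hv, huv⟩ := Submodule.mem_sup.1 h1
  have hu' := map_pReg_le_span hM hV B hu
  have hv' := map_pReg_le_span hM hV Bᶜ hv
  have hdisj : Disjoint (ibrUnder V B) (ibrUnder V Bᶜ) := by
    rw [Set.disjoint_left]
    rintro j ⟨χ₁, hχ₁, h1⟩ ⟨χ₂, hχ₂, h2⟩
    exact hχ₂ (hB χ₁ χ₂ (under_sameBlock hM hV χ₁.2 χ₂.2 h1 h2) hχ₁)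
  have hd := (linearIndependent_phi (V := V) (G := G) (p := p)).disjoint_span_image hdisj
  rw [Submodule.disjoint_def] at hd
  have h2 : v = phi p i - u := by rw [← huv]; abel
  have h3 : v ∈ Submodule.span ℂ (phi p '' ibrUnder V B) := by
    rw [h2]
    exact Submodule.sub_mem _ (Submodule.subset_span ⟨i, ⟨χ, hχ, hi⟩, rfl⟩) hu'
  have h4 := hd v h3 hv'
  rw [h4, add_zero] at huv
  rw [← huv]
  exact hu

/-- Every irreducible Brauer character lies under an ordinary irreducible character. -/
theorem exists_under (hM : IsPModular p M) (hV : Above M V) (i : IBr V G) :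
    ∃ χ : IrrCharacter G, Under i (χ : G → ℂ) := by
  have : Fact p.Prime := ⟨hM.1⟩
  have : CharP (ResidueField V) p := hV.charP hM
  by_contra hcon
  have h1 := map_pReg_le_span hM hV _ (phi_mem_all (p := p) i)
  have h2 : i ∉ ibrUnder V (Set.univ : Set (IrrCharacter G)) := by
    rintro ⟨χ, -, h⟩
    exact hcon ⟨χ, h⟩
  exact (linearIndependent_phi (V := V) (G := G) (p := p)).notMem_span_image h2 h1

theorem finrank_span_phi [Fact p.Prime] [CharP (ResidueField V) p] (S : Set (IBr V G)) :
    finrank ℂ (Submodule.span ℂ (phi p '' S)) = Nat.card S := by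
  classical
  have := Fintype.ofFinite S
  have h1 : phi p '' S = Set.range (fun i : S => phi p (i : IBr V G)) := by
    ext θ
    simp
  have h2 : LinearIndependent ℂ (fun i : S => phi p (i : IBr V G)) :=
    (linearIndependent_phi (V := V) (G := G) (p := p)).comp _ Subtype.val_injective
  rw [h1, finrank_span_eq_card h2, Nat.card_eq_fintype_card]

/-- **`blockRank p B` is the number of irreducible Brauer characters in `B`.** -/
theorem blockRank_eq_card (hM : IsPModular p M) (hV : Above M V) {B : Set (IrrCharacter G)}
    (hB : IsUnion M B) : blockRank p B = Nat.card (ibrUnder V B) := by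
  have : Fact p.Prime := ⟨hM.1⟩
  have : CharP (ResidueField V) p := hV.charP hM
  rw [blockRank_eq, map_pReg_charSpan hM hV hB, finrank_span_phi]

/-- Second main theorem: the restrictions of the members of `B` to the `p`-section of `x` are
spanned by irreducible Brauer characters of the centralizer. -/
theorem exists_secMap (hM : IsPModular p M) (hV : Above M V) {B : Set (IrrCharacter G)}
    (hB : IsPBlock M B) {x : G} (hx : ∃ k : ℕ, orderOf x = p ^ k) :
    ∃ S : Set (IBr V (Subgroup.centralizer ({x} : Set G))),
      (charSpan B).map (secMap p x (Subgroup.centralizer ({x} : Set G))) =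
        Submodule.span ℂ (phi p '' S) := by
  classical
  have := Fact.mk hM.1
  have hMp := isPrime_of_isPModular hM
  have := Fintype.ofFinite G
  set H := Subgroup.centralizer ({x} : Set G) with hH
  have := Characters.Core.finite_irr (G := H)
  have := Fintype.ofFinite (IrrCharacter H)
  let A : Set (IrrCharacter H) := {ξ | IsInducedBlock M H (blockOf M (ξ : H → ℂ)) B}
  have hA : ∀ ξ : IrrCharacter H, ξ ∈ A ↔ IsInducedBlock M H (blockOf M (ξ : H → ℂ)) B :=
    fun ξ => Iff.rfl
  have hAU : IsUnion M A := by
    intro ξ ξ' h hξ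
    rw [hA] at hξ ⊢
    rw [← blockOf_eq_of_sameBlock h]
    exact hξ
  refine ⟨ibrUnder V A, ?_⟩
  rw [← map_pReg_charSpan hM hV hAU]
  refine Submodule.eq_of_le_of_finrank_eq ?_ ?_
  · conv_lhs => unfold charSpan
    rw [Submodule.map_span, Submodule.span_le]
    rintro _ ⟨_, ⟨χ, hχ, rfl⟩, rfl⟩
    have := Fintype.ofFinite H
    refine ⟨∑ ξ with ξ ∈ A, classInner (fun c : H => (χ : G → ℂ) (x * (c : G))) (ξ : H → ℂ) •
      (ξ : H → ℂ), ?_, ?_⟩
    · refine Submodule.sum_mem _ fun ξ hξ => Submodule.smul_mem _ _ (Submodule.subset_span ?_)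
      exact ⟨ξ, (Finset.mem_filter.1 hξ).2, rfl⟩
    · funext y
      by_cases hy : IsPRegular p y
      · rw [pReg_of hy, secMap_of hy]
        have h1 := Blocks.CentralizerSum.sum_components hM x hx hH hB hA y hy χ
        rw [if_pos hχ] at h1
        show _ = (χ : G → ℂ) (x * (y : G))
        rw [← h1, Finset.sum_apply]
        rfl
      · rw [pReg_of_not hy, secMap_of_not hy]
  · rw [← blockRank_eq]
    exact finrank_secMap hM hB hx hH hA

end Cfsg.Agent.H657
end
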