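import Cfsg.Agent.H657.IBrBlock
import Cfsg.Agent.CharDeep.LinearChar
import Cfsg.Agent.Characters.GaloisIrr
import Cfsg.Agent.Blocks.PRegular
import Cfsg.Agent.S0860
set_option linter.all false

/-!
# Power maps and blocks

* `IBr.map`: transport of irreducible Brauer characters along an isomorphism of groups;
* `blockRank_le_fixed`: if `κ` is prime to `|G|` and `κ ≡ 1` modulo the `p'`-part of `|G|`, then at
  least `blockRank p B` members of the block `B` are fixed by `χ ↦ (g ↦ χ (g ^ κ))`.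
-/

set_option autoImplicit false

namespace Cfsg.Agent.H657

open Cfsg IsLocalRing Module Cfsg.Agent.H608.BlockRank Cfsg.Agent.Blocks.Basic Cfsg.Agent.Blocks.Local

attribute [local instance] Above.isAlgClosed

section transport

variable {V : ValuationSubring ℂ} {G K : Type*} [Group G] [Group K]

theorem map_aux (e : G ≃* K) (i : IBr V G) :
    Representation.IsIrreducible (i.rep.comp e.symm.toMonoidHom) :=
  CharDeep.LinearChar.isIrreducible_comp _ e.symm.surjective _ i.rep_irr

/-- Transport along an isomorphism of groups. -/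
noncomputable def IBr.map (e : G ≃* K) (i : IBr V G) : IBr V K :=
  ⟨fun k => i.1 (e.symm k), i.deg, i.rep.comp e.symm.toMonoidHom, map_aux e i,
    fun k => i.trace_rep (e.symm k)⟩

theorem phi_map (p : ℕ) (e : G ≃* K) (i : IBr V G) (k : K) :
    phi p (i.map e) k = phi p i (e.symm k) := by
  have h1 : IsPRegular p k ↔ IsPRegular p (e.symm k) := by
    unfold IsPRegular
    rw [MulEquiv.orderOf_eq]
  by_cases hk : IsPRegular p k
  · rw [phi_eq_bc (i.map e) (i.rep.comp e.symm.toMonoidHom) (map_aux e i)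
      (fun k => i.trace_rep (e.symm k)) hk, phi_of i (h1.1 hk)]
    rfl
  · rw [phi_of_not _ hk, phi_of_not _ (fun h => hk (h1.2 h))]

end transport

section section_functions

variable {G : Type*} [Group G] {p : ℕ}

/-- `θ` is the class function supported on the `p`-section of `x` with values `f y` at `x y`. -/
structure IsSec (p : ℕ) (x : G) (f : Subgroup.centralizer ({x} : Set G) → ℂ) (θ : G → ℂ) :
    Prop where
  cls : IsClassFunction G θ
  off : ∀ g, ¬ InSection p x g → θ g = 0
  val : ∀ y : Subgroup.centralizer ({x} : Set G), IsPRegular p y → θ (x * (y : G)) = f y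

theorem isPRegular_coe {H : Subgroup G} {y : H} : IsPRegular p (y : G) ↔ IsPRegular p y := by
  unfold IsPRegular
  rw [Subgroup.orderOf_coe]

theorem exists_conj_eq {x g : G} (h : InSection p x g) :
    ∃ (c : G) (y : Subgroup.centralizer ({x} : Set G)), IsPRegular p y ∧
      c * g * c⁻¹ = x * (y : G) := by
  obtain ⟨z, ⟨y, hzy, hcomm, -, hy⟩, hxz⟩ := h
  obtain ⟨c, hc⟩ := isConj_iff.1 hxz
  have hy' : c⁻¹ * y * c ∈ Subgroup.centralizer ({x} : Set G) := by
    rw [Subgroup.mem_centralizer_singleton_iff]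
    have h1 := hcomm.eq
    have h2 : x = c⁻¹ * z * c := by rw [← hc]; group
    rw [h2]
    calc c⁻¹ * y * c * (c⁻¹ * z * c) = c⁻¹ * (y * z) * c := by group
      _ = c⁻¹ * (z * y) * c := by rw [h1]
      _ = c⁻¹ * z * c * (c⁻¹ * y * c) := by group
  refine ⟨c⁻¹, ⟨_, hy'⟩, ?_, ?_⟩
  · rw [← isPRegular_coe]
    have := isPRegular_conj (p := p) y c⁻¹
    rw [inv_inv] at this
    exact this.2 hy
  · rw [inv_inv]
    show c⁻¹ * g * c = x * (c⁻¹ * y * c)
    rw [← hzy, ← hc]
    group

theorem IsSec.unique {x : G} {f : Subgroup.centralizer ({x} : Set G) → ℂ} {θ θ' : G → ℂ}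
    (h : IsSec p x f θ) (h' : IsSec p x f θ') : θ = θ' := by
  funext g
  by_cases hg : InSection p x g
  · obtain ⟨c, y, hy, hc⟩ := exists_conj_eq hg
    rw [← h.cls g c, ← h'.cls g c, hc, h.val y hy, h'.val y hy]
  · rw [h.off g hg, h'.off g hg]

theorem inSection_pow {x g : G} (h : InSection p x g) (hp : p.Prime) (k : ℕ) :
    InSection p (x ^ k) (g ^ k) := by
  obtain ⟨z, ⟨y, hzy, hcomm, ⟨n, hn⟩, hy⟩, hxz⟩ := h
  refine ⟨z ^ k, ⟨y ^ k, ?_, hcomm.pow_pow k k, ?_, ?_⟩, ?_⟩
  · rw [← hcomm.mul_pow, hzy]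
  · have h1 : orderOf (z ^ k) ∣ p ^ n := hn ▸ orderOf_pow_dvd k
    obtain ⟨m, -, hm⟩ := (Nat.dvd_prime_pow hp).1 h1
    exact ⟨m, hm⟩
  · exact fun h => hy (h.trans (orderOf_pow_dvd k))
  · obtain ⟨c, hc⟩ := isConj_iff.1 hxz
    exact isConj_iff.2 ⟨c, by rw [← hc, conj_pow]⟩

theorem inSection_one [Finite G] [Fact p.Prime] {g : G} (h : IsPRegular p g) : InSection p 1 g :=
  inSection_one_iff.2 h

end section_functions

section main

variable {G : Type*} [Group G] [Finite G] {p : ℕ} {M : Ideal AlgInt}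

omit [Finite G] in
theorem pow_eq_of_isPRegular [Fact p.Prime] {κ : ℕ}
    (h1 : κ ≡ 1 [MOD Nat.card G / p ^ (Nat.card G).factorization p]) {g : G}
    (hg : IsPRegular p g) : g ^ κ = g := by
  have hp : p.Prime := Fact.out
  have h2 : orderOf g ∣ Nat.card G / p ^ (Nat.card G).factorization p := by
    have h3 : orderOf g ∣ p ^ (Nat.card G).factorization p *
        (Nat.card G / p ^ (Nat.card G).factorization p) := by
      rw [Nat.ordProj_mul_ordCompl_eq_self]
      exact orderOf_dvd_natCard g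
    have h4 : (orderOf g).Coprime (p ^ (Nat.card G).factorization p) :=
      Nat.Coprime.pow_right _ ((Nat.Prime.coprime_iff_not_dvd hp).2 hg).symm
    exact h4.dvd_of_dvd_mul_left h3
  have h5 : κ ≡ 1 [MOD orderOf g] := h1.of_dvd h2
  have h6 : g ^ κ = g ^ 1 := pow_eq_pow_iff_modEq.2 h5
  rw [h6, pow_one]

theorem exists_inverse {κ : ℕ} (h : Nat.Coprime κ (Nat.card G)) :
    ∃ κ' : ℕ, ∀ g : G, g ^ (κ * κ') = g := by
  rcases Nat.lt_or_ge 1 (Nat.card G) with h1 | h1
  · obtain ⟨m, hm⟩ := Nat.exists_mul_mod_eq_one_of_coprime h h1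
    refine ⟨m, fun g => ?_⟩
    have h2 : κ * m ≡ 1 [MOD Nat.card G] := by
      unfold Nat.ModEq
      rw [hm.2, Nat.mod_eq_of_lt h1]
    have h3 : g ^ (κ * m) = g ^ 1 := pow_eq_pow_iff_modEq.2 (h2.of_dvd (orderOf_dvd_natCard g))
    rw [h3, pow_one]
  · have : Subsingleton G := (Finite.card_le_one_iff_subsingleton).1 h1
    exact ⟨1, fun g => Subsingleton.elim _ _⟩

/-- Composition with the power map. -/
noncomputable def powMap (κ : ℕ) : (G → ℂ) →ₗ[ℂ] (G → ℂ) :=
  LinearMap.funLeft ℂ ℂ (fun g : G => g ^ κ)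

omit [Finite G] in
theorem powMap_apply (κ : ℕ) (θ : G → ℂ) (g : G) : powMap κ θ g = θ (g ^ κ) := rfl

/-- Representatives of the classes of `p`-elements. -/
theorem exists_reps (p : ℕ) : ∃ X : Finset G, (∀ x ∈ X, ∃ k : ℕ, orderOf x = p ^ k) ∧
    (∀ g : G, (∃ k : ℕ, orderOf g = p ^ k) → ∃! x, x ∈ X ∧ IsConj g x) := by
  classical
  have hout : ∀ g : G, ConjClasses.mk (Quotient.out (ConjClasses.mk g)) = ConjClasses.mk g :=
    fun g => Quotient.out_eq _
  refine ⟨(Set.toFinite {x : G | (∃ k : ℕ, orderOf x = p ^ k) ∧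
    x = Quotient.out (ConjClasses.mk x)}).toFinset, ?_, ?_⟩
  · intro x hx
    rw [Set.Finite.mem_toFinset] at hx
    exact hx.1
  · intro g hg
    have h1 : IsConj g (Quotient.out (ConjClasses.mk g)) :=
      (ConjClasses.mk_eq_mk_iff_isConj.1 (hout g)).symm
    have h3 : orderOf (Quotient.out (ConjClasses.mk g)) = orderOf g := by
      obtain ⟨c, hc⟩ := isConj_iff.1 h1
      have := (MulAut.conj c).orderOf_eq g
      rw [MulAut.conj_apply, hc] at this
      exact this
    refine ⟨Quotient.out (ConjClasses.mk g), ⟨?_, h1⟩, ?_⟩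
    · rw [Set.Finite.mem_toFinset]
      exact ⟨by rw [h3]; exact hg, by rw [hout g]⟩
    · rintro y ⟨hy, hgy⟩
      rw [Set.Finite.mem_toFinset] at hy
      rw [hy.2, ConjClasses.mk_eq_mk_iff_isConj.2 hgy]

omit [Finite G] in
theorem finrank_one [Fact p.Prime] (W : Submodule ℂ (G → ℂ)) :
    finrank ℂ (W.map (secMap p 1 (Subgroup.centralizer ({1} : Set G)))) =
      finrank ℂ (W.map (pReg p)) := by
  set H := Subgroup.centralizer ({1} : Set G) with hH
  let R : (G → ℂ) →ₗ[ℂ] (H → ℂ) := LinearMap.funLeft ℂ ℂ (Subtype.val : H → G)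
  have hR : Function.Injective R := by
    refine LinearMap.funLeft_injective_of_surjective _ _ _ fun g => ⟨⟨g, ?_⟩, rfl⟩
    rw [hH, Subgroup.mem_centralizer_singleton_iff]
    simp
  have h1 : secMap p 1 H = R ∘ₗ pReg p := by
    apply LinearMap.ext
    intro θ
    funext y
    by_cases hy : IsPRegular p y
    · rw [secMap_of hy, one_mul]
      show _ = pReg p θ (y : G)
      rw [pReg_of (isPRegular_coe.2 hy)]
    · rw [secMap_of_not hy]
      show _ = pReg p θ (y : G)
      rw [pReg_of_not (fun h => hy (isPRegular_coe.1 h))]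
  rw [h1, Submodule.map_comp]
  exact ((W.map (pReg p)).equivMapOfInjective R hR).finrank_eq.symm

omit [Finite G] in
theorem isConj_unique {X : Finset G} (hX : ∀ x ∈ X, ∃ k : ℕ, orderOf x = p ^ k)
    (hXrep : ∀ g : G, (∃ k : ℕ, orderOf g = p ^ k) → ∃! x, x ∈ X ∧ IsConj g x) {x x' : G}
    (hx : x ∈ X) (hx' : x' ∈ X) (h : IsConj x x') : x = x' := by
  obtain ⟨y, -, hy⟩ := hXrep x (hX x hx)
  rw [hy x ⟨hx, IsConj.refl _⟩, hy x' ⟨hx', h⟩]

open Classical in
/-- **At least `blockRank p B` members of `B` are fixed by the power map.** -/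
theorem blockRank_le_fixed (hM : IsPModular p M) {B : Set (IrrCharacter G)} (hB : IsPBlock M B)
    {κ : ℕ} (hκ : Nat.Coprime κ (Nat.card G))
    (hκ1 : κ ≡ 1 [MOD Nat.card G / p ^ (Nat.card G).factorization p]) :
    blockRank p B ≤ Nat.card {χ : IrrCharacter G // χ ∈ B ∧ ∀ g : G, (χ : G → ℂ) (g ^ κ) = (χ : G → ℂ) g} := by
  have hFp : Fact p.Prime := ⟨hM.1⟩
  have hp : p.Prime := hM.1
  have hMp := isPrime_of_isPModular hM
  obtain ⟨V, hV⟩ := exists_above hM
  have : CharP (ResidueField V) p := hV.charP hM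
  have := Fintype.ofFinite G
  have := Characters.Core.finite_irr (G := G)
  have := Fintype.ofFinite (IrrCharacter G)
  obtain ⟨X, hX, hXrep⟩ := exists_reps (G := G) p
  obtain ⟨κ', hκ'⟩ := exists_inverse hκ
  have hBU := isUnion_of_isPBlock hB
  -- the power map preserves the span of `B`
  have hirr : ∀ χ : IrrCharacter G, IsIrrCharacter G (fun g => (χ : G → ℂ) (g ^ κ)) :=
    fun χ => Characters.GaloisIrr.isIrr_pow hκ χ.2
  have hmemB : ∀ χ ∈ B, (⟨_, hirr χ⟩ : IrrCharacter G) ∈ B := by
    intro χ hχ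
    refine hBU χ _ ?_ hχ
    refine Blocks.PRegular.sameBlock_of_isPRegular hM χ.2 (hirr χ) fun g hg => ?_
    have h1 : centralChar (χ : G → ℂ) g - centralChar (fun g => (χ : G → ℂ) (g ^ κ)) g = 0 := by
      rw [centralChar_def, centralChar_def, pow_eq_of_isPRegular hκ1 hg, one_pow, sub_self]
    rw [h1]
    exact memLocalIdeal_zero
  set W := charSpan B with hW
  have hTW : ∀ θ ∈ W, powMap κ θ ∈ W := by
    intro θ hθ
    have hle : W ≤ W.comap (powMap κ) := by
      rw [hW]
      conv_lhs => unfold charSpan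
      rw [Submodule.span_le]
      rintro _ ⟨χ, hχ, rfl⟩
      exact Submodule.subset_span ⟨_, hmemB χ hχ, rfl⟩
    exact hle hθ
  let T : W →ₗ[ℂ] W := (powMap κ).restrict hTW
  have hT : ∀ θ : W, ((T θ : W) : G → ℂ) = fun g => (θ : G → ℂ) (g ^ κ) := fun θ => rfl
  -- first basis
  have hne : Nonempty B := by
    obtain ⟨χ, hχ⟩ := isPBlock_nonempty hB
    exact ⟨⟨χ, hχ⟩⟩
  have : Fintype B := Fintype.ofFinite _
  have hli1 : LinearIndependent ℂ (fun χ : B => (⟨(χ : IrrCharacter G), Submodule.subset_span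
      ⟨χ, χ.2, rfl⟩⟩ : W)) := by
    refine LinearIndependent.of_comp W.subtype ?_
    exact (Characters.Core.irr_linearIndependent (G := G)).comp _ Subtype.val_injective
  let b1 := basisOfLinearIndependentOfCardEqFinrank hli1 (by
    rw [hW, finrank_charSpan, Nat.card_eq_fintype_card])
  have hb1 : ∀ χ : B, ((b1 χ : W) : G → ℂ) = ((χ : IrrCharacter G) : G → ℂ) := by
    intro χ
    rw [show b1 χ = _ from congrFun (coe_basisOfLinearIndependentOfCardEqFinrank hli1 _) χ]
  let s1 : B → B := fun χ => ⟨⟨_, hirr χ⟩, hmemB χ χ.2⟩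
  have htr1 := S0860.trace_of_perm b1 T s1 (fun χ => by
    apply Subtype.ext
    rw [hT, hb1, hb1])
  -- second basis
  have hex : ∀ x : X, ∃ S : Set (IBr V (Subgroup.centralizer ({(x : G)} : Set G))),
      W.map (secMap p (x : G) (Subgroup.centralizer ({(x : G)} : Set G))) =
        Submodule.span ℂ (phi p '' S) := fun x => exists_secMap hM hV hB (hX x x.2)
  choose S hS using hex
  have : ∀ x : X, Fintype (S x) := fun x => Fintype.ofFinite _
  let J := Σ x : X, S x
  have hexF : ∀ j : J, ∃ θ : W, IsSec p (j.1 : G) (phi p (j.2 : IBr V _)) (θ : G → ℂ) := by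
    rintro ⟨x, i⟩
    have h1 : phi p (i : IBr V _) ∈ W.map (secMap p (x : G)
        (Subgroup.centralizer ({(x : G)} : Set G))) := by
      rw [hS]
      exact Submodule.subset_span ⟨i, i.2, rfl⟩
    obtain ⟨θ, hθ, hθ'⟩ := h1
    refine ⟨⟨cut p (x : G) θ, cut_mem hM hBU _ hθ⟩, ?_, ?_, ?_⟩
    · exact cut_isClassFunction (charSpan_isClassFunction hθ)
    · exact fun g hg => cut_of_not hg _
    · intro y hy
      have hcomm : Commute (x : G) (y : G) :=
        (Subgroup.mem_centralizer_singleton_iff.1 y.2).symm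
      show cut p (x : G) θ ((x : G) * (y : G)) = _
      rw [cut_of ((inSection_mul_iff (hX x x.2) hcomm (isPRegular_coe.2 hy)).2 (IsConj.refl _)),
        ← hθ', secMap_of hy]
  choose F hF using hexF
  -- values of the other section maps
  have hsec : ∀ (x : X) (j : J), secMap p (x : G) (Subgroup.centralizer ({(x : G)} : Set G))
      (F j : G → ℂ) = if h : j.1 = x then (fun y => phi p (j.2 : IBr V _)
        (h ▸ y : Subgroup.centralizer ({(j.1 : G)} : Set G))) else 0 := by
    rintro x ⟨x', i⟩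
    funext y
    by_cases h : x' = x
    · subst h
      rw [dif_pos rfl]
      by_cases hy : IsPRegular p y
      · rw [secMap_of hy]
        exact (hF ⟨x', i⟩).val y hy
      · rw [secMap_of_not hy]
        exact (phi_of_not _ hy).symm
    · rw [dif_neg h]
      by_cases hy : IsPRegular p y
      · rw [secMap_of hy]
        refine (hF ⟨x', i⟩).off _ fun hin => h ?_
        have hcomm : Commute (x : G) (y : G) :=
          (Subgroup.mem_centralizer_singleton_iff.1 y.2).symm
        have h2 := (inSection_mul_iff (hX x x.2) hcomm (isPRegular_coe.2 hy)).1 hin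
        exact Subtype.ext (isConj_unique hX hXrep x'.2 x.2 h2)
      · rw [secMap_of_not hy]
        rfl
  have hli2 : LinearIndependent ℂ F := by
    rw [Fintype.linearIndependent_iff]
    rintro a ha ⟨x, i⟩
    have h1 := congrArg (fun θ : W => secMap p (x : G)
      (Subgroup.centralizer ({(x : G)} : Set G)) (θ : G → ℂ)) ha
    simp only [Submodule.coe_zero, map_zero, AddSubmonoidClass.coe_finsetSum, Submodule.coe_smul,
      map_sum, map_smul] at h1
    rw [Fintype.sum_sigma, Finset.sum_eq_single x] at h1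
    · have h2 : ∑ i' : S x, a ⟨x, i'⟩ • phi p i'.1 = 0 := by
        rw [← h1]
        refine Finset.sum_congr rfl fun i' _ => ?_
        rw [hsec, dif_pos rfl]
      have h3 : LinearIndependent ℂ (fun i' : S x => phi p i'.1) :=
        (linearIndependent_phi (V := V) (p := p)).comp _ Subtype.val_injective
      exact Fintype.linearIndependent_iff.1 h3 (fun i' => a ⟨x, i'⟩) h2 i
    · intro x' _ hx'
      refine Finset.sum_eq_zero fun i' _ => ?_
      rw [hsec, dif_neg hx', smul_zero]
    · intro h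
      exact absurd (Finset.mem_univ _) h
  have hcard : Fintype.card J = finrank ℂ W := by
    rw [Fintype.card_sigma, hW, finrank_charSpan, card_eq_sum_finrank hM hBU X hX hXrep]
    rw [← Finset.sum_coe_sort X (fun x => finrank ℂ ↥((charSpan B).map (secMap p x
      (Subgroup.centralizer ({x} : Set G)))))]
    refine Finset.sum_congr rfl fun x _ => ?_
    rw [hS x, finrank_span_phi, Nat.card_eq_fintype_card]
  have hneJ : Nonempty J := by
    rw [← Fintype.card_pos_iff, hcard, hW, finrank_charSpan]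
    exact Nat.card_pos
  let b2 := basisOfLinearIndependentOfCardEqFinrank hli2 hcard
  have hb2 : ∀ j : J, b2 j = F j := fun j =>
    congrFun (coe_basisOfLinearIndependentOfCardEqFinrank hli2 hcard) j
  -- the power map permutes the second basis
  have hperm : ∀ j : J, ∃ j' : J, T (F j) = F j' := by
    rintro ⟨x, i⟩
    set u : G := (x : G) ^ κ' with hu
    have hux : u ^ κ = (x : G) := by
      rw [hu, ← pow_mul, mul_comm, hκ']
    have hup : ∃ k : ℕ, orderOf u = p ^ k := by
      obtain ⟨n, hn⟩ := hX x x.2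
      obtain ⟨m, -, hm⟩ := (Nat.dvd_prime_pow hp).1 (hn ▸ orderOf_pow_dvd κ' : orderOf u ∣ p ^ n)
      exact ⟨m, hm⟩
    obtain ⟨x', ⟨hx'X, hux'⟩, -⟩ := hXrep u hup
    obtain ⟨c, hc⟩ := isConj_iff.1 hux'
    have hcx : c * (x : G) * c⁻¹ = x' ^ κ := by rw [← hux, ← hc, conj_pow]
    have hm1 : ∀ y ∈ Subgroup.centralizer ({(x : G)} : Set G),
        c * y * c⁻¹ ∈ Subgroup.centralizer ({x'} : Set G) := by
      intro y hy
      rw [Subgroup.mem_centralizer_singleton_iff] at hy ⊢
      have h1 : y * u = u * y := by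
        have : Commute y (x : G) := hy
        exact (this.pow_right κ').eq
      rw [← hc]
      calc c * y * c⁻¹ * (c * u * c⁻¹) = c * (y * u) * c⁻¹ := by group
        _ = c * (u * y) * c⁻¹ := by rw [h1]
        _ = c * u * c⁻¹ * (c * y * c⁻¹) := by group
    have hm2 : ∀ y ∈ Subgroup.centralizer ({x'} : Set G),
        c⁻¹ * y * c ∈ Subgroup.centralizer ({(x : G)} : Set G) := by
      intro y hy
      rw [Subgroup.mem_centralizer_singleton_iff] at hy ⊢
      have h1 : (c⁻¹ * y * c) * u = u * (c⁻¹ * y * c) := by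
        have h2 : u = c⁻¹ * x' * c := by rw [← hc]; group
        rw [h2]
        calc c⁻¹ * y * c * (c⁻¹ * x' * c) = c⁻¹ * (y * x') * c := by group
          _ = c⁻¹ * (x' * y) * c := by rw [hy]
          _ = c⁻¹ * x' * c * (c⁻¹ * y * c) := by group
      have h3 : Commute (c⁻¹ * y * c) u := h1
      have h4 := (h3.pow_right κ).eq
      rwa [hux] at h4
    let e : Subgroup.centralizer ({(x : G)} : Set G) ≃* Subgroup.centralizer ({x'} : Set G) :=
      { toFun := fun y => ⟨c * y * c⁻¹, hm1 y y.2⟩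
        invFun := fun y => ⟨c⁻¹ * y * c, hm2 y y.2⟩
        left_inv := fun y => Subtype.ext (by
          show c⁻¹ * (c * (y : G) * c⁻¹) * c = y
          group)
        right_inv := fun y => Subtype.ext (by
          show c * (c⁻¹ * (y : G) * c) * c⁻¹ = y
          group)
        map_mul' := fun y z => Subtype.ext (by
          show c * ((y : G) * z) * c⁻¹ = c * y * c⁻¹ * (c * z * c⁻¹)
          group) }
    have he : ∀ y, ((e.symm y : Subgroup.centralizer ({(x : G)} : Set G)) : G) = c⁻¹ * y * c :=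
      fun y => rfl
    have hsecF : IsSec p x' (phi p (IBr.map e (i : IBr V _))) ((T (F ⟨x, i⟩) : W) : G → ℂ) := by
      refine ⟨charSpan_isClassFunction (T (F ⟨x, i⟩)).2, ?_, ?_⟩
      · intro g hg
        rw [hT]
        refine (hF ⟨x, i⟩).off _ fun hin => hg ?_
        have h1 := inSection_pow hin hp κ'
        rw [← pow_mul, hκ'] at h1
        obtain ⟨z, hz, hxz⟩ := h1
        exact ⟨z, hz, hux'.symm.trans hxz⟩
      · intro y hy
        rw [hT, phi_map]
        have hcomm : Commute x' (y : G) :=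
          (Subgroup.mem_centralizer_singleton_iff.1 y.2).symm
        have hyr : (y : G) ^ κ = (y : G) := pow_eq_of_isPRegular hκ1 (isPRegular_coe.2 hy)
        have h1 : IsPRegular p (e.symm y) := by
          unfold IsPRegular
          rw [MulEquiv.orderOf_eq]
          exact hy
        have h2 : (F ⟨x, i⟩ : G → ℂ) ((x' * (y : G)) ^ κ) =
            (F ⟨x, i⟩ : G → ℂ) ((x : G) * ((e.symm y : Subgroup.centralizer ({(x : G)} : Set G)) : G)) := by
          rw [← (hF ⟨x, i⟩).cls ((x : G) * _) c]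
          congr 1
          rw [hcomm.mul_pow, hyr, ← hcx, he]
          group
        show (F ⟨x, i⟩ : G → ℂ) ((x' * (y : G)) ^ κ) = _
        rw [h2, (hF ⟨x, i⟩).val _ h1]
    have hmem : phi p (IBr.map e (i : IBr V _)) ∈ Submodule.span ℂ (phi p '' S ⟨x', hx'X⟩) := by
      rw [← hS]
      refine ⟨_, (T (F ⟨x, i⟩)).2, ?_⟩
      funext y
      by_cases hy : IsPRegular p y
      · rw [secMap_of hy, hsecF.val y hy]
      · rw [secMap_of_not hy, phi_of_not _ hy]
    have hmem' : IBr.map e (i : IBr V _) ∈ S ⟨x', hx'X⟩ := by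
      by_contra hcon
      exact (linearIndependent_phi (V := V) (p := p)).notMem_span_image hcon hmem
    refine ⟨⟨⟨x', hx'X⟩, ⟨_, hmem'⟩⟩, Subtype.ext ?_⟩
    exact hsecF.unique (hF ⟨⟨x', hx'X⟩, ⟨_, hmem'⟩⟩)
  choose s2 hs2 using hperm
  have htr2 := S0860.trace_of_perm b2 T s2 (fun j => by rw [hb2, hb2, hs2])
  -- comparison
  have hcount : Nat.card {χ : B // s1 χ = χ} = Nat.card {j : J // s2 j = j} := by
    have := htr1.symm.trans htr2
    exact_mod_cast this
  have hfix1 : Nat.card {χ : B // s1 χ = χ} ≤ Nat.card {χ : IrrCharacter G // χ ∈ B ∧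
      ∀ g : G, (χ : G → ℂ) (g ^ κ) = (χ : G → ℂ) g} := by
    refine Nat.card_le_card_of_injective (fun χ => ⟨(χ : B), (χ : B).2, fun g => ?_⟩) ?_
    · have h1 := congrArg (fun ψ : B => ((ψ : IrrCharacter G) : G → ℂ) g) χ.2
      exact h1
    · intro χ χ' h
      apply Subtype.ext
      apply Subtype.ext
      exact congrArg (fun z : {χ : IrrCharacter G // χ ∈ B ∧
        ∀ g : G, (χ : G → ℂ) (g ^ κ) = (χ : G → ℂ) g} => z.1) h
  -- the identity section
  obtain ⟨x₁, ⟨hx₁X, hx₁⟩, -⟩ := hXrep 1 ⟨0, by rw [orderOf_one, pow_zero]⟩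
  have hx₁1 : x₁ = 1 := isConj_one_left.1 hx₁.symm
  subst hx₁1
  have hfix2 : Nat.card (S ⟨1, hx₁X⟩) ≤ Nat.card {j : J // s2 j = j} := by
    refine Nat.card_le_card_of_injective (fun i => ⟨⟨⟨1, hx₁X⟩, i⟩, ?_⟩) ?_
    · apply hli2.injective
      rw [← hs2]
      apply Subtype.ext
      rw [hT]
      funext g
      by_cases hg : IsPRegular p g
      · rw [pow_eq_of_isPRegular hκ1 hg]
      · have h1 : ¬ IsPRegular p (g ^ κ) := by
          intro h
          apply hg
          intro hd
          apply h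
          have h2 := orderOf_pow_dvd (x := g ^ κ) κ'
          rw [← pow_mul, hκ'] at h2
          exact hd.trans h2
        rw [(hF _).off g (fun h => hg (inSection_one_iff.1 h)),
          (hF _).off (g ^ κ) (fun h => h1 (inSection_one_iff.1 h))]
    · intro i i' h
      have h1 := congrArg Subtype.val h
      exact eq_of_heq (Sigma.mk.inj h1).2
  have hrank : blockRank p B = Nat.card (S ⟨1, hx₁X⟩) := by
    rw [blockRank_eq, ← finrank_one, ← finrank_span_phi (p := p), ← hS ⟨1, hx₁X⟩]
  rw [hrank]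
  exact (hfix2.trans hcount.ge).trans hfix1

end main

end Cfsg.Agent.H657
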