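import Mathlib
import Cfsg.Prelude.Def_Blocks
import Cfsg.Agent.Blocks.Local
import Cfsg.Agent.S0901
set_option linter.all false

/-!
# Valuation subrings of `ℂ` above a maximal ideal of the algebraic integers

`Above M V`: the valuation subring `V` of `ℂ` contains the algebraic integers and its maximal ideal
contains `M`. The residue field is algebraically closed of characteristic `p`.
-/

set_option autoImplicit false

namespace Cfsg.Agent.H657

open Cfsg IsLocalRing

/-- `V` is a valuation subring of `ℂ` dominating the localization of the algebraic integers at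
`M`. -/
structure Above (M : Ideal AlgInt) (V : ValuationSubring ℂ) : Prop where
  mem : ∀ a : AlgInt, (a : ℂ) ∈ V
  nonunit : ∀ a ∈ M, (a : ℂ) ∈ V.nonunits

theorem exists_above {p : ℕ} {M : Ideal AlgInt} (hM : IsPModular p M) :
    ∃ V : ValuationSubring ℂ, Above M V := by
  let A : Subring ℂ := AlgInt.toSubring
  let I : Ideal A := M
  have hI : I ≠ ⊤ := hM.2.1.ne_top
  obtain ⟨V, hV, hV'⟩ := Ideal.image_subset_nonunits_valuationSubring I hI
  exact ⟨V, ⟨fun a => hV a.2, fun a ha => hV' ⟨a, ha, rfl⟩⟩⟩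

namespace Above

variable {p : ℕ} {M : Ideal AlgInt} {V : ValuationSubring ℂ}

theorem nonunits_mul {a b : ℂ} (ha : a ∈ V) (hb : b ∈ V.nonunits) : a * b ∈ V.nonunits := by
  rw [V.mem_nonunits_iff] at hb ⊢
  rw [map_mul]
  have := (V.valuation_le_one_iff a).2 ha
  calc V.valuation a * V.valuation b ≤ 1 * V.valuation b := mul_le_mul_left this _
    _ = V.valuation b := one_mul _
    _ < 1 := hb

theorem one_notMem : (1 : ℂ) ∉ V.nonunits := by
  rw [V.mem_nonunits_iff, map_one]
  exact lt_irrefl _

theorem nonunits_sub {a b : ℂ} (ha : a ∈ V.nonunits) (hb : b ∈ V.nonunits) :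
    a - b ∈ V.nonunits := by
  rw [V.mem_nonunits_iff] at ha hb ⊢
  exact lt_of_le_of_lt (V.valuation.map_sub a b) (max_lt ha hb)

theorem notMem_nonunits (h : Above M V) (hM : M.IsMaximal) {a : AlgInt} (ha : a ∉ M) :
    (a : ℂ) ∉ V.nonunits := by
  intro hn
  obtain ⟨b, i, hi, hb⟩ := hM.exists_inv ha
  have h1 : (b : ℂ) * (a : ℂ) + (i : ℂ) = 1 := by
    have := congrArg (fun x : AlgInt => (x : ℂ)) hb
    simpa using this
  apply one_notMem (V := V)
  have h2 : (1 : ℂ) = (b : ℂ) * (a : ℂ) - -(i : ℂ) := by rw [← h1]; ring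
  rw [h2]
  refine nonunits_sub (nonunits_mul (h.mem b) hn) ?_
  have h3 := h.nonunit i hi
  rw [V.mem_nonunits_iff] at h3 ⊢
  rwa [Valuation.map_neg]

theorem inv_mem {a : ℂ} (ha : a ∈ V) (hn : a ∉ V.nonunits) : a⁻¹ ∈ V := by
  rw [V.mem_nonunits_iff, not_lt] at hn
  have h1 : V.valuation a = 1 := le_antisymm ((V.valuation_le_one_iff a).2 ha) hn
  rw [← V.valuation_le_one_iff, map_inv₀, h1, inv_one]

theorem mem_of_local (h : Above M V) (hM : M.IsMaximal) {z : ℂ} (hz : MemLocalRing M z) :
    z ∈ V := by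
  obtain ⟨a, b, hb, rfl⟩ := hz
  rw [div_eq_mul_inv]
  exact V.mul_mem _ _ (h.mem a) (inv_mem (h.mem b) (h.notMem_nonunits hM hb))

theorem nonunit_of_local (h : Above M V) (hM : M.IsMaximal) {z : ℂ} (hz : MemLocalIdeal M z) :
    z ∈ V.nonunits := by
  obtain ⟨a, b, ha, hb, rfl⟩ := hz
  rw [div_eq_mul_inv, mul_comm]
  exact nonunits_mul (inv_mem (h.mem b) (h.notMem_nonunits hM hb)) (h.nonunit a ha)

theorem nonunit_iff (h : Above M V) (hM : M.IsMaximal) {z : ℂ} (hz : MemLocalRing M z) :
    z ∈ V.nonunits ↔ MemLocalIdeal M z := by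
  have : M.IsPrime := hM.isPrime
  refine ⟨fun hn => ?_, h.nonunit_of_local hM⟩
  by_contra hcon
  have h1 := h.mem_of_local hM (Blocks.Local.memLocalRing_inv hz hcon)
  have h2 := nonunits_mul h1 hn
  rw [inv_mul_cancel₀ (Blocks.Local.ne_zero_of_not_memLocalIdeal hcon)] at h2
  exact one_notMem h2

theorem p_nonunit (h : Above M V) (hM : IsPModular p M) : (p : ℂ) ∈ V.nonunits := by
  have := h.nonunit _ hM.2.2
  simpa using this

theorem residue_eq_zero_iff' {z : V} : residue V z = 0 ↔ (z : ℂ) ∈ V.nonunits := by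
  rw [IsLocalRing.residue_eq_zero_iff, ValuationSubring.valuation_lt_one_iff, V.mem_nonunits_iff]

theorem charP (h : Above M V) (hM : IsPModular p M) : CharP (ResidueField V) p := by
  have : Fact p.Prime := ⟨hM.1⟩
  have hp0 : (p : ResidueField V) = 0 := by
    have : (p : ResidueField V) = residue V (p : V) := by simp
    rw [this, residue_eq_zero_iff']
    simpa using h.p_nonunit hM
  exact (CharP.charP_iff_prime_eq_zero hM.1).mpr hp0

/-- The residue field of a valuation subring of `ℂ` is algebraically closed. -/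
theorem isAlgClosed (V : ValuationSubring ℂ) : IsAlgClosed (ResidueField V) := by
  refine IsAlgClosed.of_exists_root _ fun f hmonic hirr => ?_
  -- lift `f` to a monic polynomial over `V`
  have hsurj : Function.Surjective (residue V) := IsLocalRing.residue_surjective
  obtain ⟨g, hg, hdeg, hgm⟩ := Polynomial.lifts_and_natDegree_eq_and_monic
    ((Polynomial.map_surjective _ hsurj f) : f ∈ Polynomial.lifts (residue V)) hmonic
  have hg0 : 0 < g.natDegree := by
    rw [hdeg]
    exact hirr.natDegree_pos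
  obtain ⟨z, hz⟩ := IsAlgClosed.exists_root (g.map (algebraMap V ℂ)) (by
    rw [Polynomial.degree_map_eq_of_injective Subtype.val_injective]
    exact (Polynomial.natDegree_pos_iff_degree_pos.1 hg0).ne')
  have hint : IsIntegral V z := by
    refine ⟨g, hgm, ?_⟩
    rwa [Polynomial.IsRoot.def, Polynomial.eval_map] at hz
  have hmem : z ∈ V := by
    obtain ⟨w, hw⟩ := (IsIntegrallyClosed.isIntegral_iff (R := V) (K := ℂ)).1 hint
    rw [← hw]
    exact w.2
  refine ⟨residue V ⟨z, hmem⟩, ?_⟩
  have h0 : Polynomial.eval (⟨z, hmem⟩ : V) g = 0 := by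
    have h1 := hz
    rw [Polynomial.IsRoot.def, Polynomial.eval_map] at h1
    have h2 : algebraMap V ℂ (Polynomial.eval (⟨z, hmem⟩ : V) g) = 0 := by
      rw [← Polynomial.eval₂_at_apply]
      exact h1
    exact Subtype.val_injective h2
  rw [← hg, Polynomial.eval_map, Polynomial.eval₂_at_apply, h0, map_zero]

end Above

end Cfsg.Agent.H657
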