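import Mathlib
import Cfsg.Agent.H657.ValM
import Cfsg.Agent.H666.Lattice
import Cfsg.Agent.Blocks.ModularTraces
import Cfsg.Agent.Characters.Core
set_option linter.all false

-- part: H657/Factors
section
/-!
# Composition factors and determinants

`exists_factors`: for a finite-dimensional representation `ρ` of a group over a field there are
irreducible matrix representations `σ i` with `det (ρ a) = ∏ det (σ i a)` for every element `a` of
the group algebra.
-/

set_option autoImplicit false

namespace Cfsg.Agent.H657.Factors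

open Module Representation

universe u v w

variable {k : Type v} [Field k] {G : Type u} [Group G]

/-- Transport of a representation along a linear equivalence. -/
noncomputable def transport {V W : Type*} [AddCommGroup V] [Module k V] [AddCommGroup W]
    [Module k W] (e : V ≃ₗ[k] W) (ρ : Representation k G V) : Representation k G W where
  toFun g := e.conj (ρ g)
  map_one' := by ext x; simp
  map_mul' g h := by ext x; simp [LinearEquiv.conj_apply]

theorem transport_apply {V W : Type*} [AddCommGroup V] [Module k V] [AddCommGroup W]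
    [Module k W] (e : V ≃ₗ[k] W) (ρ : Representation k G V) (g : G) :
    transport e ρ g = e.conj (ρ g) := rfl

/-- The transported representation is equivalent to the original one. -/
noncomputable def transportEquiv {V W : Type*} [AddCommGroup V] [Module k V] [AddCommGroup W]
    [Module k W] (e : V ≃ₗ[k] W) (ρ : Representation k G V) :
    Representation.Equiv ρ (transport e ρ) :=
  Representation.Equiv.mk e (fun g => by ext x; simp [transport_apply, LinearEquiv.conj_apply])

theorem isIrreducible_of_equiv {V W : Type*} [AddCommGroup V] [Module k V] [AddCommGroup W]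
    [Module k W] {ρ : Representation k G V} {σ : Representation k G W}
    (e : Representation.Equiv ρ σ) (h : ρ.IsIrreducible) : σ.IsIrreducible := by
  rw [irreducible_iff_isSimpleModule_asModule] at h ⊢
  have e' : ρ.asModule ≃ₗ[MonoidAlgebra k G] σ.asModule :=
    LinearEquiv.ofBijective (IntertwiningMap.equivLinearMapAsModule ρ σ e.toIntertwiningMap)
      e.toLinearEquiv.bijective
  exact IsSimpleModule.congr e'.symm

theorem asAlgebraHom_transport {V W : Type*} [AddCommGroup V] [Module k V] [AddCommGroup W]
    [Module k W] (e : V ≃ₗ[k] W) (ρ : Representation k G V) (a : MonoidAlgebra k G) :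
    (transport e ρ).asAlgebraHom a = e.conj (ρ.asAlgebraHom a) := by
  induction a using MonoidAlgebra.induction_linear with
  | zero => simp
  | add x y hx hy => simp [hx, hy]
  | single x c => simp [transport_apply]

theorem asAlgebraHom_sub {V : Type*} [AddCommGroup V] [Module k V] (ρ : Representation k G V)
    (U : Subrepresentation ρ) (a : MonoidAlgebra k G) :
    ∃ h : U.toSubmodule ≤ U.toSubmodule.comap (ρ.asAlgebraHom a),
      U.toRepresentation.asAlgebraHom a = (ρ.asAlgebraHom a).restrict h ∧
      (ρ.quotient U.toSubmodule (fun g => U.apply_mem_toSubmodule g)).asAlgebraHom a =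
        U.toSubmodule.mapQ U.toSubmodule (ρ.asAlgebraHom a) h := by
  induction a using MonoidAlgebra.induction_linear with
  | zero =>
    refine ⟨fun v _ => ?_, ?_, ?_⟩
    · simp
    · ext v; simp
    · ext v; simp
  | add x y hx hy =>
    obtain ⟨h1, h2, h3⟩ := hx
    obtain ⟨h1', h2', h3'⟩ := hy
    refine ⟨fun v hv => ?_, ?_, ?_⟩
    · rw [Submodule.mem_comap, map_add, LinearMap.add_apply]
      exact U.toSubmodule.add_mem (h1 hv) (h1' hv)
    · rw [map_add, h2, h2']
      ext v; simp
    · rw [map_add, h3, h3']
      ext v; simp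
  | single x c =>
    refine ⟨fun v hv => ?_, ?_, ?_⟩
    · rw [Submodule.mem_comap, asAlgebraHom_single, LinearMap.smul_apply]
      exact U.toSubmodule.smul_mem _ (U.apply_mem_toSubmodule x hv)
    · ext v
      simp [Subrepresentation.toRepresentation]
    · ext v
      simp [Representation.quotient]

theorem exists_factors_aux (N : ℕ) : ∀ (W : Type w) [AddCommGroup W] [Module k W]
    [FiniteDimensional k W] (ρ : Representation k G W), finrank k W ≤ N →
    ∃ (m : ℕ) (n : Fin m → ℕ) (σ : ∀ i, Representation k G (Fin (n i) → k)),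
      (∀ i, (σ i).IsIrreducible) ∧ ∀ a : MonoidAlgebra k G,
        LinearMap.det (ρ.asAlgebraHom a) = ∏ i, LinearMap.det ((σ i).asAlgebraHom a) := by
  induction N with
  | zero =>
    intro W _ _ _ ρ hN
    have hs : Subsingleton W := finrank_zero_iff.1 (Nat.le_zero.1 hN)
    refine ⟨0, fun _ => 0, fun i => i.elim0, fun i => i.elim0, fun a => ?_⟩
    rw [Fin.prod_univ_zero]
    have : ρ.asAlgebraHom a = LinearMap.id := Subsingleton.elim _ _
    rw [this, LinearMap.det_id]
  | succ N ih =>
    intro W _ _ _ ρ hN
    by_cases hirr : ρ.IsIrreducible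
    · refine ⟨1, fun _ => finrank k W, fun _ => transport (finBasis k W).equivFun ρ,
        fun _ => isIrreducible_of_equiv (transportEquiv _ _) hirr, fun a => ?_⟩
      rw [Fin.prod_univ_one, asAlgebraHom_transport, LinearEquiv.conj_apply]
      exact (LinearMap.det_conj (ρ.asAlgebraHom a) (finBasis k W).equivFun).symm
    · rcases subsingleton_or_nontrivial W with hs | hnt
      · refine ⟨0, fun _ => 0, fun i => i.elim0, fun i => i.elim0, fun a => ?_⟩
        rw [Fin.prod_univ_zero]
        have : ρ.asAlgebraHom a = LinearMap.id := Subsingleton.elim _ _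
        rw [this, LinearMap.det_id]
      · obtain ⟨U, hU0, hU1⟩ : ∃ U : Subrepresentation ρ, U ≠ ⊥ ∧ U ≠ ⊤ := by
          by_contra hcon
          push Not at hcon
          apply hirr
          refine { exists_pair_ne := ⟨⊥, ⊤, fun h => ?_⟩, eq_bot_or_eq_top := fun U => ?_ }
          · have : (⊥ : Submodule k W) = ⊤ := congrArg Subrepresentation.toSubmodule h
            exact bot_ne_top this
          · by_cases h : U = ⊥
            · exact Or.inl h
            · exact Or.inr (hcon U h)
        have hU0' : U.toSubmodule ≠ ⊥ := fun h => hU0 (Subrepresentation.toSubmodule_injective h)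
        have hU1' : U.toSubmodule ≠ ⊤ := fun h => hU1 (Subrepresentation.toSubmodule_injective h)
        have h1 : finrank k U.toSubmodule < finrank k W := Submodule.finrank_lt hU1'
        have h2 : 0 < finrank k U.toSubmodule := by
          rw [Nat.pos_iff_ne_zero]
          intro h
          exact hU0' (Submodule.finrank_eq_zero.1 h)
        have h3 := Submodule.finrank_quotient_add_finrank U.toSubmodule
        obtain ⟨m₁, n₁, σ₁, hσ₁, hd₁⟩ := ih U.toSubmodule U.toRepresentation (by omega)
        obtain ⟨m₂, n₂, σ₂, hσ₂, hd₂⟩ := ih (W ⧸ U.toSubmodule)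
          (ρ.quotient U.toSubmodule (fun g => U.apply_mem_toSubmodule g)) (by omega)
        let σ : ∀ i : Fin m₁ ⊕ Fin m₂, Representation k G
            (Fin (Sum.elim n₁ n₂ i) → k) := fun i => match i with
          | Sum.inl i => σ₁ i
          | Sum.inr i => σ₂ i
        let e : Fin (m₁ + m₂) ≃ Fin m₁ ⊕ Fin m₂ := finSumFinEquiv.symm
        refine ⟨m₁ + m₂, fun i => Sum.elim n₁ n₂ (e i), fun i => σ (e i), ?_, ?_⟩
        · have key : ∀ j : Fin m₁ ⊕ Fin m₂, (σ j).IsIrreducible := by
            rintro (j | j)
            · exact hσ₁ j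
            · exact hσ₂ j
          exact fun i => key (e i)
        · intro a
          obtain ⟨h, h4, h5⟩ := asAlgebraHom_sub ρ U a
          rw [LinearMap.det_eq_det_mul_det U.toSubmodule _ h, ← h4, ← h5, hd₁, hd₂,
            e.prod_comp (fun i => LinearMap.det ((σ i).asAlgebraHom a)), Fintype.prod_sum_type]
          rfl

/-- **Composition factors.** -/
theorem exists_factors {W : Type w} [AddCommGroup W] [Module k W]
    [FiniteDimensional k W] (ρ : Representation k G W) :
    ∃ (m : ℕ) (n : Fin m → ℕ) (σ : ∀ i, Representation k G (Fin (n i) → k)),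
      (∀ i, (σ i).IsIrreducible) ∧ ∀ a : MonoidAlgebra k G,
        LinearMap.det (ρ.asAlgebraHom a) = ∏ i, LinearMap.det ((σ i).asAlgebraHom a) :=
  exists_factors_aux (finrank k W) W ρ le_rfl

end Cfsg.Agent.H657.Factors
end

-- part: H657/Reduce
section
/-!
# Reduction of complex representations modulo a valuation subring

`exists_red`: a complex representation `ρ` of a finite group has irreducible representations `σ i`
over the residue field of a valuation subring `V` of `ℂ` with
`det (∑ f g ρ g) ≡ ∏ det (∑ f g σ i g)` for all `f : G → V`.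
-/

set_option autoImplicit false

namespace Cfsg.Agent.H657.Reduce

open Cfsg IsLocalRing Module

variable {G : Type*} [Group G] {W : Type*} [AddCommGroup W] [Module ℂ W] [FiniteDimensional ℂ W]
  (V : ValuationSubring ℂ)

/-- A basis in which all the operators of a finite group have entries in `V`. -/
theorem exists_integral_basis [Finite G] (ρ : Representation ℂ G W) :
    ∃ (T : Finset W) (b : Basis T ℂ W), ∀ (g : G) (i j : T), b.repr (ρ g (b j)) i ∈ V := by
  classical
  have := Fintype.ofFinite G
  let e := finBasis ℂ W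
  let S : Finset W := Finset.univ.image (fun x : G × Fin (finrank ℂ W) => ρ x.1 (e x.2))
  have hS : Submodule.span ℂ (S : Set W) = ⊤ := by
    rw [eq_top_iff, ← e.span_eq]
    refine Submodule.span_mono ?_
    rintro _ ⟨i, rfl⟩
    refine Finset.mem_coe.2 (Finset.mem_image.2 ⟨(1, i), Finset.mem_univ _, ?_⟩)
    simp
  obtain ⟨T, b, hb⟩ := H666.exists_basis V S hS
  refine ⟨T, b, fun g i j => ?_⟩
  have hstab : ∀ m ∈ Submodule.span V (S : Set W), ρ g m ∈ Submodule.span V (S : Set W) := by
    intro m hm
    have : Submodule.span V (S : Set W) ≤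
        (Submodule.span V (S : Set W)).comap ((ρ g).restrictScalars V) := by
      rw [Submodule.span_le]
      intro x hx
      rw [Finset.mem_coe, Finset.mem_image] at hx
      obtain ⟨⟨h, i⟩, -, rfl⟩ := hx
      refine Submodule.subset_span (Finset.mem_coe.2 (Finset.mem_image.2
        ⟨(g * h, i), Finset.mem_univ _, ?_⟩))
      simp
    exact this hm
  have h1 : ρ g (b j) ∈ Submodule.span V (Set.range b) := by
    rw [hb]
    refine hstab _ ?_
    rw [← hb]
    exact Submodule.subset_span ⟨j, rfl⟩
  rw [Basis.mem_span_iff_repr_mem] at h1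
  obtain ⟨v, hv⟩ := h1 i
  rw [← hv]
  exact v.2

theorem asAlgebraHom_sum {k : Type*} [Field k] [Fintype G] {U : Type*} [AddCommGroup U]
    [Module k U] (τ : Representation k G U) (f : G → k) :
    τ.asAlgebraHom (∑ g, MonoidAlgebra.single g (f g)) = ∑ g, f g • τ g := by
  rw [map_sum]
  exact Finset.sum_congr rfl fun g _ => Representation.asAlgebraHom_single _ _ _

/-- **Reduction modulo the maximal ideal of `V`.** -/
theorem exists_red [Fintype G] (ρ : Representation ℂ G W) :
    ∃ (m : ℕ) (n : Fin m → ℕ) (σ : ∀ i, Representation (ResidueField V) G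
        (Fin (n i) → ResidueField V)),
      (∀ i, (σ i).IsIrreducible) ∧ ∀ f : G → V, ∃ d : V,
        (d : ℂ) = LinearMap.det (∑ g, (f g : ℂ) • ρ g) ∧
        residue V d = ∏ i, LinearMap.det (∑ g, residue V (f g) • σ i g) := by
  classical
  obtain ⟨T, b, hb⟩ := exists_integral_basis V ρ
  let A : G → Matrix T T V := fun g => Matrix.of fun i j => ⟨b.repr (ρ g (b j)) i, hb g i j⟩
  have hA : ∀ g, (A g).map (algebraMap V ℂ) = LinearMap.toMatrix b b (ρ g) := by
    intro g
    ext i j
    rw [LinearMap.toMatrix_apply]
    rfl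
  have hinj : Function.Injective (fun M : Matrix T T V => M.map (algebraMap V ℂ)) :=
    Matrix.map_injective Subtype.val_injective
  have hA1 : A 1 = 1 := by
    apply hinj
    show (A 1).map (algebraMap V ℂ) = (1 : Matrix T T V).map (algebraMap V ℂ)
    rw [hA, map_one, Matrix.map_one _ (map_zero _) (map_one _)]
    exact LinearMap.toMatrix_id b
  have hAm : ∀ g h, A (g * h) = A g * A h := by
    intro g h
    apply hinj
    show (A (g * h)).map (algebraMap V ℂ) = (A g * A h).map (algebraMap V ℂ)
    rw [Matrix.map_mul, hA, hA, hA, map_mul]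
    exact LinearMap.toMatrix_mul b (ρ g) (ρ h)
  let σ₀ : Representation (ResidueField V) G (T → ResidueField V) :=
    { toFun := fun g => Matrix.toLin' ((A g).map (residue V))
      map_one' := by
        rw [hA1, Matrix.map_one _ (map_zero _) (map_one _), Matrix.toLin'_one]
        rfl
      map_mul' := fun g h => by
        rw [hAm, Matrix.map_mul, Matrix.toLin'_mul]
        rfl }
  obtain ⟨m, n, σ, hσ, hdet⟩ := Factors.exists_factors σ₀
  refine ⟨m, n, σ, hσ, fun f => ⟨(∑ g, f g • A g).det, ?_, ?_⟩⟩
  · have h1 : ((∑ g, f g • A g).det : ℂ) = ((∑ g, f g • A g).map (algebraMap V ℂ)).det := by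
      exact RingHom.map_det (algebraMap V ℂ) _
    rw [h1, ← LinearMap.det_toMatrix b]
    congr 1
    rw [map_sum]
    ext i j
    simp only [Matrix.map_apply, Matrix.sum_apply, Matrix.smul_apply, map_sum, map_smul]
    refine Finset.sum_congr rfl fun g _ => ?_
    rw [← hA g]
    simp only [Matrix.map_apply, smul_eq_mul, map_mul]
    rfl
  · have h2 : residue V (∑ g, f g • A g).det = ((∑ g, f g • A g).map (residue V)).det :=
      RingHom.map_det (residue V) _
    have h4 := hdet (∑ g, MonoidAlgebra.single g (residue V (f g)))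
    rw [asAlgebraHom_sum] at h4
    rw [h2, ← LinearMap.det_toLin']
    have h5 : Matrix.toLin' ((∑ g, f g • A g).map (residue V)) =
        ∑ g, residue V (f g) • σ₀ g := by
      have h6 : (∑ g, f g • A g).map (residue V) = ∑ g, residue V (f g) • (A g).map (residue V) := by
        ext i j
        simp only [Matrix.map_apply, Matrix.sum_apply, Matrix.smul_apply, map_sum, smul_eq_mul,
          map_mul]
      rw [h6, map_sum]
      refine Finset.sum_congr rfl fun g _ => ?_
      rw [map_smul]
      rfl
    rw [h5, h4]
    refine Finset.prod_congr rfl fun i _ => ?_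
    rw [asAlgebraHom_sum]

end Cfsg.Agent.H657.Reduce
end

-- part: H657/BrauerChar
section
/-!
# Brauer characters

For a valuation subring `V` of `ℂ` above a maximal ideal of the algebraic integers and a
representation `σ` over its residue field, `bc p σ g` is the sum of the lifts (to roots of unity of
order prime to `p`) of the eigenvalues of `σ g`.
-/

set_option autoImplicit false

namespace Cfsg.Agent.H657

open Cfsg IsLocalRing Module Polynomial

/-- A root of unity of order prime to `p`. -/
def IsRU (p : ℕ) {K : Type*} [Monoid K] (z : K) : Prop := ∃ m : ℕ, ¬ p ∣ m ∧ z ^ m = 1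

theorem IsRU.map {p : ℕ} {K L : Type*} [Monoid K] [Monoid L] (f : K →* L) {z : K}
    (h : IsRU p z) : IsRU p (f z) := by
  obtain ⟨m, hm, hz⟩ := h
  exact ⟨m, hm, by rw [← map_pow, hz, map_one]⟩

variable {V : ValuationSubring ℂ}

theorem IsRU.mem {p : ℕ} {z : ℂ} (h : IsRU p z) : z ∈ V := by
  obtain ⟨m, hm, hz⟩ := h
  have hm0 : m ≠ 0 := fun h0 => hm (h0 ▸ dvd_zero p)
  rw [← V.valuation_le_one_iff]
  have h1 : V.valuation z ^ m = 1 := by rw [← map_pow, hz, map_one]
  exact (pow_le_one_iff hm0).1 h1.le

theorem ru_injective {p : ℕ} [Fact p.Prime] [CharP (ResidueField V) p] {z w : V}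
    (hz : IsRU p (z : ℂ)) (hw : IsRU p (w : ℂ)) (h : residue V z = residue V w) : z = w := by
  obtain ⟨m, hm, hzm⟩ := hz
  obtain ⟨n, hn, hwn⟩ := hw
  have hpr : p.Prime := Fact.out
  set u : ℂ := (z : ℂ) * (w : ℂ)⁻¹ with hu
  have hmn : ¬ p ∣ m * n := fun h => (hpr.dvd_mul.1 h).elim hm hn
  have hmn0 : m * n ≠ 0 := fun h0 => hmn (h0 ▸ dvd_zero p)
  have hn0 : n ≠ 0 := fun h0 => hn (h0 ▸ dvd_zero p)
  have hw0 : (w : ℂ) ≠ 0 := by
    intro h0
    rw [h0, zero_pow hn0] at hwn
    exact zero_ne_one hwn
  have hu1 : u ^ (m * n) = 1 := by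
    rw [hu, mul_pow, inv_pow, pow_mul, hzm, one_pow, mul_comm m n, pow_mul, hwn, one_pow, inv_one,
      mul_one]
  have huV : u ∈ V := IsRU.mem ⟨_, hmn, hu1⟩
  have hzu : z = ⟨u, huV⟩ * w := by
    apply Subtype.ext
    show (z : ℂ) = u * (w : ℂ)
    rw [hu, inv_mul_cancel_right₀ hw0]
  have hwr : residue V w ≠ 0 := by
    intro h0
    have h1 : (residue V w) ^ n = 1 := by
      rw [← map_pow]
      have : w ^ n = 1 := Subtype.ext (by simpa using hwn)
      rw [this, map_one]
    rw [h0, zero_pow hn0] at h1
    exact zero_ne_one h1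
  have hur : residue V ⟨u, huV⟩ = 1 := by
    have h1 : residue V ⟨u, huV⟩ * residue V w = 1 * residue V w := by
      rw [← map_mul, ← hzu, h, one_mul]
    exact mul_right_cancel₀ hwr h1
  by_contra hne
  have hu_ne : u ≠ 1 := by
    intro h1
    apply hne
    rw [hzu]
    have : (⟨u, huV⟩ : V) = 1 := Subtype.ext (by simpa using h1)
    rw [this, one_mul]
  have hsum : ∑ i ∈ Finset.range (m * n), u ^ i = 0 := by
    have h1 := mul_geom_sum u (m * n)
    rw [hu1, sub_self] at h1
    exact (mul_eq_zero.1 h1).resolve_left (sub_ne_zero.2 hu_ne)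
  have hsumV : ∑ i ∈ Finset.range (m * n), (⟨u, huV⟩ : V) ^ i = 0 := by
    apply Subtype.ext
    push_cast
    exact hsum
  have h2 := congrArg (residue V) hsumV
  rw [map_sum, map_zero] at h2
  simp only [map_pow, hur, one_pow, Finset.sum_const, Finset.card_range, nsmul_eq_mul, mul_one] at h2
  exact hmn ((CharP.cast_eq_zero_iff (ResidueField V) p _).1 h2)

open Classical in
/-- The lift of a root of unity of order prime to `p`. -/
noncomputable def lift (p : ℕ) (r : ResidueField V) : ℂ :=
  if h : ∃ z : V, IsRU p (z : ℂ) ∧ residue V z = r then (h.choose : ℂ) else 0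

theorem lift_residue {p : ℕ} [Fact p.Prime] [CharP (ResidueField V) p] {z : V}
    (hz : IsRU p (z : ℂ)) : lift p (residue V z) = (z : ℂ) := by
  have h : ∃ w : V, IsRU p (w : ℂ) ∧ residue V w = residue V z := ⟨z, hz, rfl⟩
  unfold lift
  rw [dif_pos h]
  have h1 := h.choose_spec
  exact congrArg Subtype.val (ru_injective h1.1 hz h1.2)

/-- Every root of unity of order prime to `p` in the residue field lifts. -/
theorem exists_lift {p : ℕ} [Fact p.Prime] [CharP (ResidueField V) p] {r : ResidueField V}
    (hr : IsRU p r) : ∃ z : V, IsRU p (z : ℂ) ∧ residue V z = r := by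
  classical
  obtain ⟨m, hm, hrm⟩ := hr
  have hm0 : m ≠ 0 := fun h0 => hm (h0 ▸ dvd_zero p)
  have hmpos : 0 < m := Nat.pos_of_ne_zero hm0
  have hprim := Complex.isPrimitiveRoot_exp m hm0
  have hRU : ∀ a ∈ nthRootsFinset m (1 : ℂ), IsRU p a := fun a ha =>
    ⟨m, hm, (mem_nthRootsFinset hmpos 1).1 ha⟩
  obtain ⟨a, ha, hra⟩ := Finset.surj_on_of_inj_on_of_card_le
    (s := nthRootsFinset m (1 : ℂ)) (t := nthRootsFinset m (1 : ResidueField V))
    (fun a ha => residue V ⟨a, (hRU a ha).mem⟩)
    (fun a ha => by
      rw [mem_nthRootsFinset hmpos, ← map_pow]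
      have : (⟨a, (hRU a ha).mem⟩ : V) ^ m = 1 :=
        Subtype.ext (by simpa using (mem_nthRootsFinset hmpos 1).1 ha)
      rw [this, map_one])
    (fun a b ha hb hab => congrArg Subtype.val (ru_injective (hRU a ha) (hRU b hb) hab))
    (by
      rw [hprim.card_nthRootsFinset]
      have := card_nthRoots m (1 : ResidueField V)
      refine le_trans ?_ this
      rw [nthRootsFinset_def]
      exact Multiset.toFinset_card_le _)
    r ((mem_nthRootsFinset hmpos 1).2 hrm)
  exact ⟨⟨a, (hRU a ha).mem⟩, hRU a ha, hra.symm⟩

theorem lift_spec {p : ℕ} [Fact p.Prime] [CharP (ResidueField V) p] {r : ResidueField V}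
    (hr : IsRU p r) : ∃ z : V, IsRU p (z : ℂ) ∧ residue V z = r ∧ lift p r = (z : ℂ) := by
  obtain ⟨z, hz, rfl⟩ := exists_lift hr
  exact ⟨z, hz, rfl, lift_residue hz⟩

variable {G : Type*} [Group G]

/-- The Brauer character of a representation over the residue field (meaningful at elements of order
prime to `p`). -/
noncomputable def bc (p : ℕ) {W : Type*} [AddCommGroup W] [Module (ResidueField V) W]
    [FiniteDimensional (ResidueField V) W] (σ : Representation (ResidueField V) G W) (g : G) : ℂ :=
  ((LinearMap.charpoly (σ g)).roots.map (lift p)).sum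

attribute [local instance] Above.isAlgClosed

section

variable {W : Type*} [AddCommGroup W] [Module (ResidueField V) W]
    [FiniteDimensional (ResidueField V) W]

theorem root_isRU {K : Type*} [Field K] {U : Type*} [AddCommGroup U] [Module K U]
    [FiniteDimensional K U] {p : ℕ} (σ : Representation K G U) {g : G}
    (hg : ¬ p ∣ orderOf g) {r : K} (hr : r ∈ (LinearMap.charpoly (σ g)).roots) : IsRU p r := by
  rw [mem_roots (LinearMap.charpoly_monic _).ne_zero,
    ← Module.End.hasEigenvalue_iff_isRoot_charpoly] at hr
  obtain ⟨v, hv⟩ := hr.exists_hasEigenvector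
  refine ⟨orderOf g, hg, ?_⟩
  have h1 : ((σ g) ^ orderOf g) v = r ^ orderOf g • v := by
    have h2 : ∀ n : ℕ, ((σ g) ^ n) v = r ^ n • v := by
      intro n
      induction n with
      | zero => simp
      | succ n ih =>
        rw [pow_succ, Module.End.mul_apply, hv.apply_eq_smul, map_smul, ih, smul_smul, pow_succ,
          mul_comm]
    exact h2 _
  rw [← map_pow, pow_orderOf_eq_one, map_one, Module.End.one_apply] at h1
  by_contra hne
  have h3 : (r ^ orderOf g - 1) • v = 0 := by
    rw [sub_smul, ← h1, one_smul, sub_self]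
  rcases smul_eq_zero.1 h3 with h4 | h4
  · exact hne (sub_eq_zero.1 h4)
  · exact hv.2 h4

/-- Brauer characters lie in `V` and reduce to traces. -/
theorem bc_spec {p : ℕ} [Fact p.Prime] [CharP (ResidueField V) p]
    (σ : Representation (ResidueField V) G W) {g : G} (hg : ¬ p ∣ orderOf g) :
    ∃ z : V, bc p σ g = (z : ℂ) ∧ residue V z = LinearMap.trace (ResidueField V) W (σ g) := by
  have h1 : ∀ s : Multiset (ResidueField V), (∀ r ∈ s, IsRU p r) →
      ∃ z : V, (s.map (lift p)).sum = (z : ℂ) ∧ residue V z = s.sum := by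
    intro s
    induction s using Multiset.induction_on with
    | empty => exact fun _ => ⟨0, by simp, by simp⟩
    | cons a s ih =>
      intro h
      obtain ⟨z, hz1, hz2⟩ := ih fun r hr => h r (Multiset.mem_cons_of_mem hr)
      obtain ⟨w, -, hw1, hw2⟩ := lift_spec (h a (Multiset.mem_cons_self a s))
      refine ⟨w + z, ?_, ?_⟩
      · rw [Multiset.map_cons, Multiset.sum_cons, hz1, hw2]
        rfl
      · rw [map_add, hw1, hz2, Multiset.sum_cons]
  obtain ⟨z, hz1, hz2⟩ := h1 _ fun r hr => root_isRU σ hg hr
  refine ⟨z, hz1, ?_⟩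
  rw [hz2, Module.End.trace_eq_sum_roots_charpoly_of_splits (IsAlgClosed.splits _)]

theorem bc_conj (p : ℕ) (σ : Representation (ResidueField V) G W) (g h : G) :
    bc p σ (h * g * h⁻¹) = bc p σ g := by
  unfold bc
  let e : W ≃ₗ[ResidueField V] W := LinearEquiv.ofLinearMap (σ h) (σ h⁻¹)
    (by rw [← Module.End.mul_eq_comp, ← map_mul, mul_inv_cancel, map_one]; rfl)
    (by rw [← Module.End.mul_eq_comp, ← map_mul, inv_mul_cancel, map_one]; rfl)
  have h1 : σ (h * g * h⁻¹) = e.conj (σ g) := by
    ext v
    rw [LinearEquiv.conj_apply_apply, map_mul, map_mul]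
    rfl
  rw [h1, LinearEquiv.charpoly_conj]

theorem bc_equiv (p : ℕ) {W' : Type*} [AddCommGroup W'] [Module (ResidueField V) W']
    [FiniteDimensional (ResidueField V) W'] (σ : Representation (ResidueField V) G W)
    (σ' : Representation (ResidueField V) G W') (e : W ≃ₗ[ResidueField V] W')
    (he : ∀ g w, e (σ g w) = σ' g (e w)) (g : G) : bc p σ g = bc p σ' g := by
  unfold bc
  have h1 : σ' g = e.conj (σ g) := by
    ext v
    rw [LinearEquiv.conj_apply_apply, he, e.apply_symm_apply]
  rw [h1, LinearEquiv.charpoly_conj]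

end

theorem sum_aux {K : Type*} [Field K] {U : Type*} [AddCommGroup U] [Module K U] [Fintype G]
    [DecidableEq G] (ρ : Representation K G U) (t : K) (g : G) :
    ∑ h, ((if h = 1 then t else 0) - (if h = g then (1 : K) else 0)) • ρ h =
      algebraMap K (Module.End K U) t - ρ g := by
  have : ∀ h, ((if h = 1 then t else 0) - (if h = g then (1 : K) else 0)) • ρ h =
      (if h = 1 then t • ρ h else 0) - (if h = g then ρ h else 0) := by
    intro h
    rw [sub_smul, ite_smul, ite_smul, zero_smul, one_smul]
  rw [Finset.sum_congr rfl fun h _ => this h, Finset.sum_sub_distrib]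
  simp only [Finset.sum_ite_eq', Finset.mem_univ, if_true]
  rw [map_one, Algebra.algebraMap_eq_smul_one]

/-- **Decomposition of an ordinary character into Brauer characters.** -/
theorem character_eq_sum_bc {p : ℕ} [Fact p.Prime] [CharP (ResidueField V) p] [Fintype G]
    {U : Type*} [AddCommGroup U] [Module ℂ U] [FiniteDimensional ℂ U]
    (ρ : Representation ℂ G U) {m : ℕ} {n : Fin m → ℕ}
    (σ : ∀ i, Representation (ResidueField V) G (Fin (n i) → ResidueField V))
    (hred : ∀ f : G → V, ∃ d : V, (d : ℂ) = LinearMap.det (∑ g, (f g : ℂ) • ρ g) ∧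
      residue V d = ∏ i, LinearMap.det (∑ g, residue V (f g) • σ i g))
    {g : G} (hg : ¬ p ∣ orderOf g) : LinearMap.trace ℂ U (ρ g) = ∑ i, bc p (σ i) g := by
  classical
  set R := (LinearMap.charpoly (ρ g)).roots with hR
  have hRU : ∀ r ∈ R, IsRU p r := fun r hr => root_isRU ρ hg hr
  have hRV : ∀ r ∈ R, r ∈ V := fun r hr => (hRU r hr).mem
  -- the roots as elements of `V`
  obtain ⟨S, hS⟩ : ∃ S : Multiset V, S.map (fun z : V => (z : ℂ)) = R := by
    refine ⟨R.pmap (fun r hr => (⟨r, hr⟩ : V)) hRV, ?_⟩
    rw [Multiset.map_pmap]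
    exact (Multiset.pmap_eq_map _ _ _ _).trans (Multiset.map_id' R)
  have hchar : LinearMap.charpoly (ρ g) = (R.map fun r => X - C r).prod :=
    (IsAlgClosed.splits _).eq_prod_roots_of_monic (LinearMap.charpoly_monic _)
  -- the polynomial identity
  have hpoly : (S.map fun z => X - C (residue V z)).prod =
      ∏ i, LinearMap.charpoly (σ i g) := by
    have : Infinite (ResidueField V) := IsAlgClosed.instInfinite
    refine Polynomial.funext fun r => ?_
    obtain ⟨t, rfl⟩ := IsLocalRing.residue_surjective (R := V) r
    obtain ⟨d, hd1, hd2⟩ := hred (fun h => (if h = 1 then t else 0) - (if h = g then 1 else 0))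
    have e1 : ∑ h, (((if h = 1 then t else 0) - (if h = g then 1 else 0) : V) : ℂ) • ρ h =
        algebraMap ℂ (Module.End ℂ U) (t : ℂ) - ρ g := by
      rw [← sum_aux]
      refine Finset.sum_congr rfl fun h _ => ?_
      congr 1
      split_ifs <;> simp
    have e2 : ∀ i, ∑ h, residue V ((if h = 1 then t else 0) - (if h = g then 1 else 0)) • σ i h =
        algebraMap (ResidueField V) (Module.End (ResidueField V) (Fin (n i) → ResidueField V))
          (residue V t) - σ i g := by
      intro i
      rw [← sum_aux]
      refine Finset.sum_congr rfl fun h _ => ?_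
      congr 1
      rw [map_sub, apply_ite (residue V), apply_ite (residue V), map_zero, map_one]
    rw [e1] at hd1
    simp only [e2] at hd2
    rw [← LinearMap.eval_charpoly, hchar, ← hS, Multiset.map_map, eval_multiset_prod,
      Multiset.map_map] at hd1
    simp only [← LinearMap.eval_charpoly] at hd2
    rw [eval_prod, ← hd2, eval_multiset_prod, Multiset.map_map]
    have hd3 : d = (S.map fun z => t - z).prod := by
      apply Subtype.ext
      rw [hd1]
      have : ∀ S : Multiset V, (((S.map fun z => t - z).prod : V) : ℂ) =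
          (S.map fun z : V => (t : ℂ) - (z : ℂ)).prod := by
        intro S
        induction S using Multiset.induction_on with
        | empty => simp
        | cons a s ih => simp [ih]
      rw [this]
      congr 1
      refine Multiset.map_congr rfl fun z _ => ?_
      simp
    rw [hd3, map_multiset_prod, Multiset.map_map]
    congr 1
    refine Multiset.map_congr rfl fun z _ => ?_
    simp
  have hroots : S.map (residue V) = Finset.univ.val.bind fun i =>
      (LinearMap.charpoly (σ i g)).roots := by
    rw [← roots_prod _ _ (Finset.prod_ne_zero_iff.2 fun i _ =>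
      (LinearMap.charpoly_monic _).ne_zero), ← hpoly,
      ← roots_multiset_prod_X_sub_C (S.map (residue V)), Multiset.map_map]
    rfl
  rw [Module.End.trace_eq_sum_roots_charpoly_of_splits (IsAlgClosed.splits _), ← hR, ← hS]
  have h5 : S.map (fun z : V => (z : ℂ)) = (S.map (residue V)).map (lift p) := by
    rw [Multiset.map_map]
    refine Multiset.map_congr rfl fun z hz => ?_
    have : IsRU p (z : ℂ) := hRU _ (by rw [← hS]; exact Multiset.mem_map_of_mem _ hz)
    exact (lift_residue this).symm
  rw [h5, hroots, Multiset.map_bind, Multiset.sum_bind]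
  rfl

end Cfsg.Agent.H657
end
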