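import Mathlib
import Cfsg.Prelude.Def_Blocks
import Cfsg.Prelude.Def_BlockRank
import Cfsg.Agent.H644.CentralQuot
import Cfsg.Agent.S4735
import Cfsg.Agent.Prune
set_option linter.all false
prune_inst 0x7f00000000000000000000000000000000000000000000000000000000000000000000000000000000000000000000000000000000000000000000000000000000000000000000000000000000000000003fffffffffffffffffffffffffffbeffbdffffffff
open scoped Cfsg.Agent.FastGrp

/-!
# The principal block and the quotient by a normal `p'`-subgroup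

`k`, `k₀` and `l` of the principal `p`-block do not change modulo a normal `p'`-subgroup.
-/

set_option autoImplicit false

open Cfsg

namespace Cfsg.Agent.H657.PrinQuot

variable {G : Type*} [Group G] [Finite G] {p : ℕ} [hp : Fact p.Prime] {M : Ideal AlgInt}

theorem not_dvd_iff (N : Subgroup G) [N.Normal] (hN : ¬ p ∣ Nat.card N) (g : G) :
    ¬ p ∣ orderOf g ↔ ¬ p ∣ orderOf (QuotientGroup.mk g : G ⧸ N) := by
  have hpr := hp.out
  constructor
  · exact fun h h1 => h (h1.trans (orderOf_map_dvd (QuotientGroup.mk' N) g))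
  · intro h h1
    have h2 : g ^ orderOf (QuotientGroup.mk g : G ⧸ N) ∈ N := by
      rw [← QuotientGroup.eq_one_iff, QuotientGroup.mk_pow, pow_orderOf_eq_one]
    have h3 : (g ^ orderOf (QuotientGroup.mk g : G ⧸ N)) ^ Nat.card N = 1 := by
      have h4 := pow_card_eq_one' (x := (⟨_, h2⟩ : N))
      exact congrArg Subtype.val h4
    rw [← pow_mul] at h3
    rcases (Nat.Prime.dvd_mul hpr).1 (h1.trans (orderOf_dvd_of_pow_eq_one h3)) with h5 | h5
    · exact h h5
    · exact hN h5

theorem pRegularPart_infl (N : Subgroup G) [N.Normal] (hN : ¬ p ∣ Nat.card N)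
    (χ : IrrCharacter (G ⧸ N)) :
    pRegularPart p (S4735.infl N χ : G → ℂ) =
      fun g => pRegularPart p (χ : G ⧸ N → ℂ) (QuotientGroup.mk g) := by
  funext g
  unfold pRegularPart
  by_cases hg : IsPRegular p g
  · have hg' : IsPRegular p (QuotientGroup.mk g : G ⧸ N) := (not_dvd_iff N hN g).1 hg
    rw [if_pos hg, if_pos hg', S4735.infl_apply]
  · have hg' : ¬ IsPRegular p (QuotientGroup.mk g : G ⧸ N) := fun h =>
      hg ((not_dvd_iff N hN g).2 h)
    rw [if_neg hg, if_neg hg']

theorem card_eq (hM : IsPModular p M) (N : Subgroup G) [N.Normal] (hN : ¬ p ∣ Nat.card N) :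
    Nat.card (principalBlock M G) = Nat.card (principalBlock M (G ⧸ N)) :=
  (Nat.card_congr (S4735.bijOn_infl hM N hN).equiv).symm

theorem blockRank_eq (hM : IsPModular p M) (N : Subgroup G) [N.Normal] (hN : ¬ p ∣ Nat.card N) :
    blockRank p (principalBlock M G) = blockRank p (principalBlock M (G ⧸ N)) := by
  have hb := S4735.bijOn_infl hM N hN
  let L : (G ⧸ N → ℂ) →ₗ[ℂ] (G → ℂ) := LinearMap.funLeft ℂ ℂ (QuotientGroup.mk : G → G ⧸ N)
  have hL : Function.Injective L :=
    LinearMap.funLeft_injective_of_surjective ℂ ℂ _ QuotientGroup.mk_surjective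
  have h1 : Submodule.span ℂ ((fun χ : IrrCharacter G => pRegularPart p (χ : G → ℂ)) ''
      principalBlock M G) =
      (Submodule.span ℂ ((fun χ : IrrCharacter (G ⧸ N) => pRegularPart p (χ : G ⧸ N → ℂ)) ''
        principalBlock M (G ⧸ N))).map L := by
    rw [Submodule.map_span, ← hb.image_eq, Set.image_image, Set.image_image]
    congr 1
    refine Set.image_congr fun χ _ => ?_
    rw [pRegularPart_infl N hN]
    rfl
  unfold blockRank
  rw [h1]
  exact (Submodule.equivMapOfInjective L hL _).finrank_eq.symm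

theorem blockHeight_infl (hM : IsPModular p M) (N : Subgroup G) [N.Normal] (hN : ¬ p ∣ Nat.card N)
    (χ : IrrCharacter (G ⧸ N)) :
    blockHeight p (principalBlock M G) (S4735.infl N χ : G → ℂ) =
      blockHeight p (principalBlock M (G ⧸ N)) (χ : G ⧸ N → ℂ) := by
  have hb := S4735.bijOn_infl hM N hN
  unfold blockHeight
  have h1 : charDegree (S4735.infl N χ : G → ℂ) = charDegree (χ : G ⧸ N → ℂ) := rfl
  rw [h1, ← hb.image_eq, Set.image_image]
  rfl

theorem card_height_eq (hM : IsPModular p M) (N : Subgroup G) [N.Normal]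
    (hN : ¬ p ∣ Nat.card N) :
    Nat.card {χ : IrrCharacter G // χ ∈ principalBlock M G ∧
      blockHeight p (principalBlock M G) (χ : G → ℂ) = 0} =
    Nat.card {χ : IrrCharacter (G ⧸ N) // χ ∈ principalBlock M (G ⧸ N) ∧
      blockHeight p (principalBlock M (G ⧸ N)) (χ : G ⧸ N → ℂ) = 0} := by
  have hb := S4735.bijOn_infl hM N hN
  have h1 : Set.BijOn (S4735.infl N)
      {χ | χ ∈ principalBlock M (G ⧸ N) ∧
        blockHeight p (principalBlock M (G ⧸ N)) (χ : G ⧸ N → ℂ) = 0}
      {χ | χ ∈ principalBlock M G ∧ blockHeight p (principalBlock M G) (χ : G → ℂ) = 0} := by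
    refine ⟨fun χ hχ => ⟨hb.mapsTo hχ.1, ?_⟩, hb.injOn.mono fun χ hχ => hχ.1, ?_⟩
    · rw [blockHeight_infl hM N hN]
      exact hχ.2
    · rintro χ ⟨h1, h2⟩
      obtain ⟨χ', h3, rfl⟩ := hb.surjOn h1
      rw [blockHeight_infl hM N hN] at h2
      exact ⟨χ', ⟨h3, h2⟩, rfl⟩
  exact (Nat.card_congr h1.equiv).symm

end Cfsg.Agent.H657.PrinQuot
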