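import Mathlib
import Cfsg.Prelude.Def_Blocks
import Cfsg.Agent.H656.FrobBlock
import Cfsg.Agent.H590.StLink
import Cfsg.Agent.Lib.SchurBound
import Cfsg.Agent.SporadicA.M11CharBasic
import Cfsg.Prelude.Def_Transfer
import Cfsg.Agent.Transfer.ExtraspecialProduct
import Cfsg.Agent.H446.ExtraAct
import Cfsg.Prelude.Def_BlockRank
import Cfsg.Prelude.Def_IsolatedElements
import Cfsg.Agent.H657.PrinQuot
import Cfsg.Agent.FastGrp
import Cfsg.Agent.Prune
set_option linter.all false
prune_inst 0x7fddfefbbfe9ffffffff7e3fffd9dffe11c7cfffffdffb4bffe9ef9fff9f23673be5fbaf9de4daffdef7e2b630b87853fb7eceffec6bdc7ffffd5ff41ffbee1fb7ef352d51f9b4a41ffe6fff9bf37ffffffffffffffffffffffffffffffffffffffdffffffff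
open scoped Cfsg.Agent.FastGrp

-- part: H657/NineBlock
section
/-!
# The principal `3`-block of a group with elementary abelian Sylow `3`-subgroup of order `9`

`P` is a Sylow `3`-subgroup of order `9` and exponent `3`, and `C_G(z) ∩ N_G(P) = C_G(P)` for all
`1 ≠ z ∈ P`; `e = |N_G(P) : C_G(P)|`.

* `mul_card`: `e k = e l + 8`;
* `small`: for `e = 1, 2, 4`: `k = 9, 6, 6`, and all degrees are prime to `3`;
* `eight`: for `e = 8`: `k = 6`, or `k = 9` and all values at `3`-singular elements are signs.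
-/

set_option autoImplicit false
set_option linter.unusedSectionVars false

open scoped ComplexConjugate
open Cfsg Cfsg.Agent Cfsg.Agent.Characters.Core

namespace Cfsg.Agent.H657.NineBlock

universe u

/-- Sylow `3`-subgroup of order `9`, exponent `3`, semiregular action of the normalizer. -/
structure Nine {G : Type u} [Group G] (P : Sylow 3 G) : Prop where
  card : Nat.card (P : Subgroup G) = 9
  exp : ∀ x ∈ (P : Subgroup G), x ^ 3 = 1
  comm : ∀ x y : P, x * y = y * x
  sr : ∀ z ∈ (P : Subgroup G), z ≠ 1 →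
      Subgroup.centralizer ({z} : Set G) ⊓ Subgroup.normalizer ((P : Subgroup G) : Set G) =
      Subgroup.centralizer ((P : Subgroup G) : Set G)

variable {M : Ideal AlgInt} {G : Type u} [Group G] [Finite G]

theorem Nine.exists_ne {P : Sylow 3 G} (h : Nine P) : ∃ x ∈ (P : Subgroup G), x ≠ 1 := by
  by_contra hcon
  push Not at hcon
  have h1 : (P : Subgroup G) = ⊥ := by
    rw [Subgroup.eq_bot_iff_forall]
    exact hcon
  have h2 := h.card
  rw [h1] at h2
  simp at h2

theorem Nine.st_eq {P : Sylow 3 G} (h : Nine P) (u : (P : Subgroup G)) (hu : u ≠ 1) :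
    H590.Act16.st (H590.StLink.aut P) u = 1 := by
  have h1 := Blocks.SylowColumns.sr (P : Subgroup G) h.sr
  rw [H590.Act16.st, Nat.card_eq_one_iff_unique]
  refine ⟨⟨fun s t => ?_⟩, ⟨⟨1, by simp only [_root_.OneMemClass.coe_one, _root_.MulAut.one_apply]⟩⟩⟩
  have hs := h1 _ s.1.2 u hu s.2
  have ht := h1 _ t.1.2 u hu t.2
  exact Subtype.ext (Subtype.ext (hs.trans ht.symm))

/-- Brauer's formula. -/
theorem mul_card (hM : IsPModular 3 M) {P : Sylow 3 G} (h : Nine P) :
    (Subgroup.centralizer ((P : Subgroup G) : Set G)).relIndex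
      (Subgroup.normalizer ((P : Subgroup G) : Set G)) * Nat.card (principalBlock M G) =
    (Subgroup.centralizer ((P : Subgroup G) : Set G)).relIndex
      (Subgroup.normalizer ((P : Subgroup G) : Set G)) * blockRank 3 (principalBlock M G) + 8 := by
  classical
  have : Fintype (P : Subgroup G) := Fintype.ofFinite _
  have hab : ∀ a ∈ (P : Subgroup G), ∀ b ∈ (P : Subgroup G), a * b = b * a :=
    fun a ha b hb => congrArg Subtype.val (h.comm ⟨a, ha⟩ ⟨b, hb⟩)
  have h1 := H590.StLink.sum_formula hM P hab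
  rw [H590.StLink.card_aut] at h1
  rw [h1, ← Finset.add_sum_erase Finset.univ _ (Finset.mem_univ (1 : (P : Subgroup G)))]
  have h2 : H590.Act16.st (H590.StLink.aut P) 1 =
      (Subgroup.centralizer ((P : Subgroup G) : Set G)).relIndex
      (Subgroup.normalizer ((P : Subgroup G) : Set G)) := by
    rw [← H590.StLink.card_aut, H590.Act16.st_eq_card_iff]
    intro s _
    exact map_one s
  rw [h2, OneMemClass.coe_one, H590.StLink.rk_centralizer_of_center (one_mem _)]
  congr 1
  rw [Finset.sum_congr rfl (g := fun _ => 1)]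
  · rw [Finset.sum_const, Finset.card_erase_of_mem (Finset.mem_univ _), Finset.card_univ,
      ← Nat.card_eq_fintype_card, h.card]
    rfl
  · intro u hu
    rw [h.st_eq u (Finset.ne_of_mem_erase hu), one_mul]
    exact (H590.StLink.rk_eq_one_iff hM P hab u).2 (h.st_eq u (Finset.ne_of_mem_erase hu))

theorem isPPart_self {y : G} (hy : y ^ 3 = 1) : IsPPart 3 y y := by
  refine ⟨1, mul_one _, Commute.one_right _, ?_, ?_⟩
  · obtain h | h := (Nat.dvd_prime Nat.prime_three).1 (orderOf_dvd_of_pow_eq_one hy)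
    · exact ⟨0, by simpa using h⟩
    · exact ⟨1, by simpa using h⟩
  · rw [orderOf_one]; norm_num

/-- The degree of a character with an integral value at an element of order `3`. -/
theorem dvd_sub {χ : IrrCharacter G} {y : G} (hy : y ^ 3 = 1) {a : ℤ} (ha : (χ : G → ℂ) y = a) :
    (3 : ℤ) ∣ charDegree (χ : G → ℂ) - a := by
  have h1 : y ^ 3 ^ 1 = 1 := by simpa using hy
  exact_mod_cast Lib.SchurBound.dvd_sub_of_pow (isIrr_isCharacter χ.2) Nat.prime_three h1
    (S0914.degree_spec χ).1 ha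

/-- The case of a small automizer. -/
theorem small (hM : IsPModular 3 M) {P : Sylow 3 G} (h : Nine P) {e : ℕ}
    (he : (Subgroup.centralizer ((P : Subgroup G) : Set G)).relIndex
      (Subgroup.normalizer ((P : Subgroup G) : Set G)) = e) (h4 : e = 1 ∨ e = 2 ∨ e = 4) :
    Nat.card (principalBlock M G) = e + 8 / e ∧
      ∀ χ ∈ principalBlock M G, ¬ 3 ∣ charDegree (χ : G → ℂ) := by
  classical
  have hfinI : Finite (IrrCharacter G) := finite_irr
  obtain ⟨s, X, Y, hs, hXY, hdisj, hX, hY, ⟨χ₁, hχ₁, h1⟩, a, d, δ, ζ, hδ, haX, -, -, -, -, hsum, -,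
    hlast⟩ := H656.FrobBlock.main M hM P h.comm e (by rw [h.card]; omega) he h.sr
  have hXf : X.Finite := Set.toFinite X
  have hYf : Y.Finite := Set.toFinite Y
  obtain ⟨y, hy, hy1⟩ := h.exists_ne
  have hval : ∀ χ ∈ X, (χ : G → ℂ) y = (a χ : ℂ) := fun χ hχ =>
    (haX χ hχ).2 y y (isPPart_self (h.exp y hy)) hy hy1
  have ha1 : a χ₁ = 1 := by
    have h2 := hval χ₁ hχ₁
    rw [h1] at h2
    have h3 : (1 : ℂ) = (a χ₁ : ℂ) := h2
    exact_mod_cast h3.symm
  rw [h.card, finsum_mem_eq_finite_toFinset_sum _ hXf] at hsum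
  have hcX : Nat.card X = hXf.toFinset.card := Nat.card_eq_card_finite_toFinset hXf
  -- the sum of squares
  have hS1 : 1 + ∑ χ ∈ hXf.toFinset.erase χ₁, a χ ^ 2 = ∑ χ ∈ hXf.toFinset, a χ ^ 2 := by
    rw [← Finset.add_sum_erase _ _ (hXf.mem_toFinset.2 hχ₁), ha1]
    norm_num
  have hSnn : 0 ≤ ∑ χ ∈ hXf.toFinset.erase χ₁, a χ ^ 2 := Finset.sum_nonneg fun _ _ => sq_nonneg _
  have hN : ∑ χ ∈ hXf.toFinset, a χ ^ 2 = e := by
    have hd0 := sq_nonneg (d - δ)
    have hdd := sq_nonneg d
    have hdb : -3 ≤ d ∧ d ≤ 3 := by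
      have h5 : d ^ 2 ≤ 5 := by
        rcases h4 with rfl | rfl | rfl <;> norm_num only [_root_.one_mul] at hsum <;> linarith only [hS1, hSnn, hsum, hXf, _root_.sq_nonneg (d - δ : ℤ)]
      constructor <;> nlinarith only [h5]
    obtain ⟨hd3, hd3'⟩ := hdb
    rcases h4 with rfl | rfl | rfl <;> norm_num only [_root_.one_mul] at hsum ⊢ <;>
      rcases hδ with rfl | rfl <;> interval_cases d <;> norm_num only [_root_.add_eq_left] at hsum ⊢ <;> linarith only [hS1, hSnn, hsum, hXf]
  have hsq : ∀ χ ∈ X, a χ ^ 2 = 1 := by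
    intro χ hχ
    by_contra hne
    have h2 : (4 : ℤ) ≤ a χ ^ 2 := by
      have h3 := (haX χ hχ).1
      have h5 : 2 ≤ |a χ| := by
        by_contra h6
        have h7 : |a χ| = 1 := by
          have := abs_pos.2 h3
          omega
        exact hne (by rw [← sq_abs, h7]; norm_num)
      rw [← sq_abs]
      nlinarith only [h5]
    have hne1 : χ ≠ χ₁ := by
      rintro rfl
      rw [ha1] at h2
      norm_num at h2
    have h3 : a χ ^ 2 ≤ ∑ χ ∈ hXf.toFinset.erase χ₁, a χ ^ 2 :=
      Finset.single_le_sum (f := fun χ => a χ ^ 2) (fun _ _ => sq_nonneg _)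
        (Finset.mem_erase.2 ⟨hne1, hXf.mem_toFinset.2 hχ⟩)
    have h5 : (e : ℤ) ≤ 4 := by rcases h4 with rfl | rfl | rfl <;> norm_num
    omega
  have hs' : s = e := by
    have h2 : ∑ χ ∈ hXf.toFinset, a χ ^ 2 = (s : ℤ) := by
      rw [Finset.sum_congr rfl fun χ hχ => hsq χ (hXf.mem_toFinset.1 hχ), Finset.sum_const,
        ← hcX, hX]
      simp
    rw [h2] at hN
    exact_mod_cast hN
  have hYc : Nat.card Y = 8 / e := by rw [hY, h.card]
  refine ⟨?_, ?_⟩
  · rw [hXY, Nat.card_coe_set_eq, Set.ncard_union_eq hdisj hXf hYf, ← Nat.card_coe_set_eq,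
      ← Nat.card_coe_set_eq, hX, hYc, hs']
  · intro χ hχ hdvd
    rw [hXY] at hχ
    rcases hχ with hχ | hχ
    · have h2 := dvd_sub (h.exp y hy) (hval χ hχ)
      have h3 : (3 : ℤ) ∣ a χ := by
        have : (3 : ℤ) ∣ charDegree (χ : G → ℂ) := by exact_mod_cast hdvd
        exact (Int.dvd_iff_dvd_of_dvd_sub h2).1 this
      have h5 : (3 : ℤ) ∣ a χ ^ 2 := dvd_pow h3 two_ne_zero
      rw [hsq χ hχ] at h5
      norm_num at h5
    · have h2 := hlast χ hχ 1 (by rw [orderOf_one]; norm_num)
      rw [finsum_mem_eq_finite_toFinset_sum _ hXf, (S0914.degree_spec χ).1,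
        Finset.sum_congr rfl fun ψ _ => by rw [(S0914.degree_spec ψ).1]] at h2
      obtain ⟨q, hq⟩ : ∃ q : ℕ, (Nat.card (P : Subgroup G) - 1) / e = q := ⟨_, rfl⟩
      rw [hq] at h2
      have h3 : ((q : ℤ) * d - δ) * (charDegree (χ : G → ℂ) : ℤ) +
          ∑ ψ ∈ hXf.toFinset, a ψ * (charDegree (ψ : G → ℂ) : ℤ) = 0 := by
        exact_mod_cast h2
      have h5 : (3 : ℤ) ∣ ∑ ψ ∈ hXf.toFinset, a ψ * (charDegree (ψ : G → ℂ) : ℤ) := by
        have h6 : (3 : ℤ) ∣ ((q : ℤ) * d - δ) * (charDegree (χ : G → ℂ) : ℤ) :=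
          Dvd.dvd.mul_left (by exact_mod_cast hdvd) _
        refine (dvd_add_right h6).1 ?_
        rw [h3]
        exact dvd_zero _
      have h6 : (3 : ℤ) ∣ ∑ ψ ∈ hXf.toFinset, a ψ * (charDegree (ψ : G → ℂ) : ℤ) -
          ∑ ψ ∈ hXf.toFinset, a ψ ^ 2 := by
        rw [← Finset.sum_sub_distrib]
        refine Finset.dvd_sum fun ψ hψ => ?_
        have h7 := dvd_sub (h.exp y hy) (hval ψ (hXf.mem_toFinset.1 hψ))
        have h8 : a ψ * (charDegree (ψ : G → ℂ) : ℤ) - a ψ ^ 2 =
          a ψ * ((charDegree (ψ : G → ℂ) : ℤ) - a ψ) := by ring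
        rw [h8]
        exact Dvd.dvd.mul_left h7 _
      have h7 : (3 : ℤ) ∣ e := by
        rw [← hN]
        exact (Int.dvd_iff_dvd_of_dvd_sub h6).1 h5
      rcases h4 with rfl | rfl | rfl <;> norm_num at h7

/-- A regular automizer: all nontrivial elements of `P` are conjugate. -/
theorem Nine.isConj {P : Sylow 3 G} (h : Nine P)
    (he : (Subgroup.centralizer ((P : Subgroup G) : Set G)).relIndex
      (Subgroup.normalizer ((P : Subgroup G) : Set G)) = 8) {x y : G}
    (hx : x ∈ (P : Subgroup G)) (hy : y ∈ (P : Subgroup G)) (hx1 : x ≠ 1) (hy1 : y ≠ 1) :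
    IsConj x y := by
  classical
  have hsr := Blocks.SylowColumns.sr (P : Subgroup G) h.sr
  let E := (P : Subgroup G).normalizerMonoidHom.range
  have hE : Nat.card E = 8 := by rw [← he]; exact Blocks.SylowColumns.card_range (P : Subgroup G)
  let x' : (P : Subgroup G) := ⟨x, hx⟩
  have hx1' : x' ≠ 1 := fun h => hx1 (congrArg Subtype.val h)
  let f : E → {v : (P : Subgroup G) // v ≠ 1} := fun s => ⟨(s : MulAut (P : Subgroup G)) x', by
    intro h0
    exact hx1' ((map_eq_one_iff _ (MulEquiv.injective _)).1 h0)⟩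
  have hf : Function.Injective f := by
    intro s t hst
    have h1 : (s : MulAut (P : Subgroup G)) x' = (t : MulAut (P : Subgroup G)) x' :=
      congrArg Subtype.val hst
    have h2 : ((t : MulAut (P : Subgroup G))⁻¹ * (s : MulAut (P : Subgroup G))) x' = x' := by
      rw [MulAut.mul_apply, h1]
      exact MulAut.inv_apply_self _ _ _
    have h3 := hsr _ (E.mul_mem (E.inv_mem t.2) s.2) x' hx1' h2
    exact Subtype.ext (inv_mul_eq_one.1 h3).symm
  have hcard : Nat.card {v : (P : Subgroup G) // v ≠ 1} = 8 := by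
    have h1 := Nat.card_congr (Equiv.sumCompl (fun v : (P : Subgroup G) => v = 1))
    rw [Nat.card_sum, h.card] at h1
    have h2 : Nat.card {v : (P : Subgroup G) // v = 1} = 1 := by
      rw [Nat.card_eq_one_iff_unique]
      exact ⟨⟨fun a b => Subtype.ext (a.2.trans b.2.symm)⟩, ⟨⟨1, rfl⟩⟩⟩
    rw [h2] at h1
    have h3 : Nat.card {v : (P : Subgroup G) // ¬ v = 1} = 8 := by omega
    exact h3
  have hbij := hf.bijective_of_nat_card_le (by rw [hE, hcard])
  obtain ⟨s, hs⟩ := hbij.2 ⟨⟨y, hy⟩, fun h => hy1 (congrArg Subtype.val h)⟩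
  exact (Blocks.SylowColumns.fus P h.comm x' ⟨y, hy⟩).2 ⟨s, s.2, congrArg Subtype.val hs⟩

/-- The case of a regular automizer. -/
theorem eight (hM : IsPModular 3 M) {P : Sylow 3 G} (h : Nine P)
    (he : (Subgroup.centralizer ((P : Subgroup G) : Set G)).relIndex
      (Subgroup.normalizer ((P : Subgroup G) : Set G)) = 8) :
    ∃ a : IrrCharacter G → ℤ,
      (∀ χ ∈ principalBlock M G, ¬ 3 ∣ charDegree (χ : G → ℂ) ∧
        ∀ g : G, 3 ∣ orderOf g → (χ : G → ℂ) g = a χ) ∧
      (Nat.card (principalBlock M G) = 6 ∨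
        Nat.card (principalBlock M G) = 9 ∧ ∀ χ ∈ principalBlock M G, a χ = 1 ∨ a χ = -1) := by
  classical
  have hfinI : Finite (IrrCharacter G) := finite_irr
  have hMp : M.IsPrime := hM.2.1.isPrime
  have hfin : (principalBlock M G).Finite := Set.toFinite _
  obtain ⟨x, hx, hx1⟩ := h.exists_ne
  have hconj : ∀ y ∈ (P : Subgroup G), y ≠ 1 → IsConj x y := fun y hy hy1 =>
    h.isConj he hx hy hx1 hy1
  have hx3 := h.exp x hx
  have hrat : ∀ χ : IrrCharacter G, ∃ v : ℤ, (χ : G → ℂ) x = v ∧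
      (3 : ℤ) ∣ charDegree (χ : G → ℂ) - v := by
    intro χ
    obtain ⟨n, v, -, hv, -⟩ := SporadicA.M11CharBasic.rational_values (isIrr_isCharacter χ.2)
      Nat.prime_three hx3 (by
        intro k hk0 hk3
        have hk : k = 1 ∨ k = 2 := by omega
        rcases hk with rfl | rfl
        · rw [pow_one]
        · refine hconj _ (pow_mem hx 2) fun h2 => hx1 ?_
          calc x = x ^ 3 * (x ^ 2)⁻¹ := by group
            _ = 1 := by rw [h2, hx3]; simp)
    exact ⟨v, hv, dvd_sub hx3 hv⟩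
  choose a ha ha3 using hrat
  let o : IrrCharacter G := ⟨fun _ => 1, isIrr_one⟩
  have hoB : o ∈ principalBlock M G := Blocks.PrincipalSection.one_mem_principalBlock
  have hao : a o = 1 := by
    have h2 : (1 : ℂ) = (a o : ℂ) := ha o
    exact_mod_cast h2.symm
  have hclass : ∀ (χ : IrrCharacter G) (u v : G), IsConj u v → (χ : G → ℂ) u = (χ : G → ℂ) v := by
    intro χ u v huv
    obtain ⟨c, hc⟩ := isConj_iff.1 huv
    rw [← hc]
    exact (isIrr_isClassFunction χ.2 _ _).symm
  -- values at singular elements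
  have hval : ∀ χ ∈ principalBlock M G, ∀ g : G, 3 ∣ orderOf g → (χ : G → ℂ) g = a χ := by
    intro χ hχ g hg
    obtain ⟨y, hy⟩ := Blocks.PPart.exists_isPPart 3 g
    have hy1 : y ≠ 1 := by
      rintro rfl
      obtain ⟨v, hv, -, -, hvo⟩ := hy
      rw [one_mul] at hv
      rw [hv] at hvo
      exact hvo hg
    obtain ⟨-, -, -, ⟨k, hk⟩, -⟩ := id hy
    have hpg : IsPGroup 3 (Subgroup.zpowers y) := IsPGroup.of_card (n := k) (by
      rw [Nat.card_zpowers, hk])
    obtain ⟨Q, hQ⟩ := hpg.exists_le_sylow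
    obtain ⟨c, hc⟩ := MulAction.exists_smul_eq G Q P
    have hyP : c * y * c⁻¹ ∈ (P : Subgroup G) := by
      have h1 : y ∈ (Q : Subgroup G) := hQ (Subgroup.mem_zpowers y)
      rw [← hc]
      exact ⟨y, h1, rfl⟩
    have hy1' : c * y * c⁻¹ ≠ 1 := fun h0 => hy1 (by simpa only [_root_.conj_eq_one_iff] using h0)
    have h1 := H656.FrobBlock.apply_eq_of_isPPart M hM P h.comm h.sr hχ
      (Blocks.PPart.isPPart_conj hy c) hyP hy1'
    rw [isIrr_isClassFunction χ.2] at h1
    rw [h1, ← hclass χ x _ (hconj _ hyP hy1'), ha]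
  -- the norm
  have hcol := Blocks.SylowColumns.columns M hM P h.comm h.sr hfin
  have hx1' : (⟨x, hx⟩ : (P : Subgroup G)) ≠ 1 := fun h => hx1 (congrArg Subtype.val h)
  have hnorm : ∑ χ ∈ hfin.toFinset, a χ ^ 2 = 9 := by
    have h1 := hcol ⟨x, hx⟩ ⟨x, hx⟩ hx1'
    rw [if_pos (IsConj.refl _), h.card] at h1
    have h2 : ((∑ χ ∈ hfin.toFinset, a χ ^ 2 : ℤ) : ℂ) = 9 := by
      push_cast at h1 ⊢
      rw [← h1]
      refine Finset.sum_congr rfl fun χ _ => ?_
      rw [ha, map_intCast, sq]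
    exact_mod_cast h2
  have horth : ∑ χ ∈ hfin.toFinset, a χ * (charDegree (χ : G → ℂ) : ℤ) = 0 := by
    have h1 := hcol ⟨x, hx⟩ 1 hx1'
    rw [if_neg (by
      intro h
      rw [isConj_comm, OneMemClass.coe_one, isConj_one_right] at h
      exact hx1 h)] at h1
    have h2 : ((∑ χ ∈ hfin.toFinset, a χ * (charDegree (χ : G → ℂ) : ℤ) : ℤ) : ℂ) = 0 := by
      push_cast
      rw [← h1]
      refine Finset.sum_congr rfl fun χ _ => ?_
      rw [ha, OneMemClass.coe_one, (S0914.degree_spec χ).1, Complex.conj_natCast]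
    exact_mod_cast h2
  -- no zeros
  have hne0 : ∀ χ ∈ principalBlock M G, a χ ≠ 0 := by
    intro χ hχ h0
    have hne : o ≠ χ := by
      rintro rfl
      rw [hao] at h0
      exact one_ne_zero h0
    obtain ⟨y, hy, hy1, hy0⟩ := H656.FrobBlock.exists_apply_ne_zero M hM P hχ hoB hne
    apply hy0
    rw [← hclass χ x y (hconj y hy hy1), ha, h0, Int.cast_zero]
  have hS1 : 1 + ∑ χ ∈ hfin.toFinset.erase o, a χ ^ 2 = 9 := by
    rw [← hnorm, ← Finset.add_sum_erase _ _ (hfin.mem_toFinset.2 hoB), hao]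
    norm_num
  have hcases : ∀ χ ∈ principalBlock M G, a χ = 1 ∨ a χ = -1 ∨ a χ = 2 ∨ a χ = -2 := by
    intro χ hχ
    by_cases hne : χ = o
    · rw [hne]; exact Or.inl hao
    have h3 : a χ ^ 2 ≤ ∑ χ ∈ hfin.toFinset.erase o, a χ ^ 2 :=
      Finset.single_le_sum (f := fun χ => a χ ^ 2) (fun _ _ => sq_nonneg _)
        (Finset.mem_erase.2 ⟨hne, hfin.mem_toFinset.2 hχ⟩)
    have h4 := hne0 χ hχ
    have h5 : a χ ^ 2 ≤ 8 := by omega
    have h6 : -3 < a χ ∧ a χ < 3 := by constructor <;> nlinarith only [hfin, hS1, h3]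
    omega
  refine ⟨a, fun χ hχ => ⟨?_, hval χ hχ⟩, ?_⟩
  · intro hd
    have h2 : (3 : ℤ) ∣ a χ :=
      (Int.dvd_iff_dvd_of_dvd_sub (ha3 χ)).1 (by exact_mod_cast hd)
    rcases hcases χ hχ with h | h | h | h <;> rw [h] at h2 <;> norm_num at h2
  · -- counting
    set S := hfin.toFinset with hS
    have hkS : Nat.card (principalBlock M G) = S.card := Nat.card_eq_card_finite_toFinset hfin
    set T := S.filter fun χ => a χ ^ 2 = 4 with hT
    have hone : ∀ χ ∈ S, a χ ^ 2 = 1 + 3 * (if a χ ^ 2 = 4 then 1 else 0) := by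
      intro χ hχ
      rcases hcases χ (hfin.mem_toFinset.1 hχ) with h | h | h | h <;> rw [h] <;> norm_num
    have hcount : (S.card : ℤ) + 3 * T.card = 9 := by
      rw [← hnorm, Finset.sum_congr rfl hone, Finset.sum_add_distrib, ← Finset.mul_sum,
        Finset.sum_const, hT, Finset.card_filter]
      simp
    have hTS : T.card ≤ S.card := Finset.card_filter_le _ _
    have hT3 : T.card = 0 ∨ T.card = 1 ∨ T.card = 2 := by omega
    rcases hT3 with h0 | h0 | h0
    · right
      refine ⟨by omega, fun χ hχ => ?_⟩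
      rw [Finset.card_eq_zero, hT, Finset.filter_eq_empty_iff] at h0
      have h1 := h0 (hfin.mem_toFinset.2 hχ)
      rcases hcases χ hχ with h | h | h | h
      · exact Or.inl h
      · exact Or.inr h
      · rw [h] at h1; exact absurd rfl h1
      · rw [h] at h1; exact absurd rfl h1
    · left; omega
    · exfalso
      have h3 : S.card = 3 := by omega
      have hoT : o ∉ T := by
        rw [hT, Finset.mem_filter, hao]
        norm_num
      have hins : insert o T = S := by
        apply Finset.eq_of_subset_of_card_le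
        · intro χ hχ
          rw [Finset.mem_insert] at hχ
          rcases hχ with rfl | hχ
          · exact hfin.mem_toFinset.2 hoB
          · exact (Finset.mem_filter.1 hχ).1
        · rw [Finset.card_insert_of_notMem hoT, h0, h3]
      rw [← hins, Finset.sum_insert hoT, hao] at horth
      have ho1 : charDegree (o : G → ℂ) = 1 := by
        have h1 := (S0914.degree_spec o).1
        have h2 : (1 : ℂ) = (charDegree (o : G → ℂ) : ℂ) := h1
        exact_mod_cast h2.symm
      rw [ho1] at horth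
      have h2 : (2 : ℤ) ∣ ∑ χ ∈ T, a χ * (charDegree (χ : G → ℂ) : ℤ) := by
        refine Finset.dvd_sum fun χ hχ => Dvd.dvd.mul_right ?_ _
        obtain ⟨h5, h6⟩ := Finset.mem_filter.1 hχ
        rcases hcases χ (hfin.mem_toFinset.1 h5) with h | h | h | h
        · rw [h] at h6; norm_num at h6
        · rw [h] at h6; norm_num at h6
        · rw [h]
        · rw [h]; norm_num
      have h3 : ∑ χ ∈ T, a χ * (charDegree (χ : G → ℂ) : ℤ) = -1 := by
        push_cast at horth
        linarith only [horth]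
      rw [h3] at h2
      norm_num at h2

end Cfsg.Agent.H657.NineBlock
end

-- part: H657/E27Local
section
/-!
# Images of a Sylow `3`-subgroup that is extraspecial of order `27` and exponent `3`

`P` is a Sylow `3`-subgroup of `G`, extraspecial of order `27` and exponent `3`, with
`N_G(P) ≤ C_G(Z(P))`, and `π : G → H` is onto with `P ∩ ker π = Z(P)`. Then the image of `P` is a Sylow
subgroup of `H` that satisfies `Nine`, and `|N_H(π P) : C_H(π P)| = |N_G(P) : P C_G(P)|`.
-/

set_option autoImplicit false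
set_option linter.unusedSectionVars false

open Subgroup Cfsg
open scoped commutatorElement

namespace Cfsg.Agent.H657.E27Local

/-- The normalizer of the image of a Sylow subgroup. -/
theorem exists_normalizer {G H : Type*} [Group G] [Finite G] [Group H] {p : ℕ} [Fact p.Prime]
    (P : Sylow p G) (π : G →* H) (hπ : Function.Surjective π) {h : H}
    (hh : h ∈ normalizer (((P : Subgroup G).map π : Subgroup H) : Set H)) :
    ∃ n ∈ normalizer ((P : Subgroup G) : Set G), π n = h := by
  obtain ⟨g, rfl⟩ := hπ h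
  set L : Subgroup G := ((P : Subgroup G).map π).comap π with hL
  have hPL : (P : Subgroup G) ≤ L := le_comap_map _ _
  have hgL : ((g • P : Sylow p G) : Subgroup G) ≤ L := by
    rintro _ ⟨x, hx, rfl⟩
    rw [hL, mem_comap]
    have h1 : π (g * x * g⁻¹) ∈ (P : Subgroup G).map π := by
      rw [map_mul, map_mul, map_inv]
      exact (mem_normalizer_iff.1 hh _).1 ⟨x, hx, rfl⟩
    exact h1
  obtain ⟨l, hl⟩ := MulAction.exists_smul_eq L ((g • P).subtype hgL) (P.subtype hPL)
  have h1 : (l : G) • (g • P) = P := by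
    rw [Sylow.smul_subtype] at hl
    exact Sylow.subtype_injective hl
  rw [← mul_smul, Sylow.smul_eq_iff_mem_normalizer] at h1
  obtain ⟨x, hx, hxl⟩ := l.2
  refine ⟨x⁻¹ * ((l : G) * g), mul_mem (inv_mem (le_normalizer hx)) h1, ?_⟩
  rw [map_mul, map_mul, map_inv, hxl]
  group

theorem normalizer_map {G H : Type*} [Group G] [Finite G] [Group H] {p : ℕ} [Fact p.Prime]
    (P : Sylow p G) (π : G →* H) (hπ : Function.Surjective π) :
    normalizer (((P : Subgroup G).map π : Subgroup H) : Set H) =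
      (normalizer ((P : Subgroup G) : Set G)).map π := by
  apply le_antisymm
  · intro h hh
    obtain ⟨n, hn, hnh⟩ := exists_normalizer P π hπ hh
    exact ⟨n, hn, hnh⟩
  · exact le_normalizer_map π

variable {G : Type*} [Group G] [Finite G] {H : Type*} [Group H]

theorem comm_central {P : Subgroup G} (hE : IsExtraspecial 3 P) {x y w : G} (hx : x ∈ P)
    (hy : y ∈ P) (hw : w ∈ P) : (x * y * x⁻¹ * y⁻¹) * w = w * (x * y * x⁻¹ * y⁻¹) := by
  have h1 : ⁅(⟨x, hx⟩ : P), (⟨y, hy⟩ : P)⁆ ∈ center P := by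
    rw [← hE.1.2.2]
    exact commutator_mem_commutator (mem_top _) (mem_top _)
  have h2 := mem_center_iff.1 h1 ⟨w, hw⟩
  exact (congrArg Subtype.val h2).symm

theorem card_map {P : Subgroup G} (hE : IsExtraspecial 3 P) (h27 : Nat.card P = 27)
    (π : G →* H) (hker : ∀ x ∈ P, π x = 1 ↔ ∀ y ∈ P, x * y = y * x) :
    Nat.card (P.map π) = 9 := by
  have h1 : (π.comp P.subtype).ker = center P := by
    ext x
    rw [MonoidHom.mem_ker, mem_center_iff]
    have h2 := hker x x.2
    constructor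
    · intro h y
      exact Subtype.ext (h2.1 h y y.2).symm
    · intro h
      exact h2.2 fun y hy => (congrArg Subtype.val (h ⟨y, hy⟩)).symm
  have h2 : (π.comp P.subtype).range = P.map π := by
    rw [MonoidHom.range_comp, range_subtype]
  have h3 := index_ker (π.comp P.subtype)
  have h4 := card_mul_index (center P)
  rw [h1, h2] at h3
  rw [hE.2, h27, h3] at h4
  omega

/-- The image is abelian. -/
theorem map_comm {P : Subgroup G} (hE : IsExtraspecial 3 P) (π : G →* H)
    (hker : ∀ x ∈ P, π x = 1 ↔ ∀ y ∈ P, x * y = y * x) {x y : G} (hx : x ∈ P) (hy : y ∈ P) :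
    π x * π y = π y * π x := by
  have h1 : x * y * x⁻¹ * y⁻¹ ∈ P := mul_mem (mul_mem (mul_mem hx hy) (inv_mem hx)) (inv_mem hy)
  have h2 := (hker _ h1).2 fun w hw => comm_central hE hx hy hw
  have h3 : π x * π y * (π x)⁻¹ * (π y)⁻¹ = 1 := by simpa only [map_mul, map_inv] using h2
  rw [mul_inv_eq_one, mul_inv_eq_iff_eq_mul] at h3
  exact h3

/-- The preimage in `N_G(P)` of the centralizer of the image. -/
theorem comap_inf {P : Subgroup G} (hE : IsExtraspecial 3 P) (π : G →* H)
    (hker : ∀ x ∈ P, π x = 1 ↔ ∀ y ∈ P, x * y = y * x) :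
    (centralizer ((P.map π : Subgroup H) : Set H)).comap π ⊓ normalizer (P : Set G) =
      P ⊔ centralizer (P : Set G) := by
  have hcen : ∀ {g : G}, g ∈ (centralizer ((P.map π : Subgroup H) : Set H)).comap π ↔
      ∀ x ∈ P, π x * π g = π g * π x := by
    intro g
    rw [mem_comap, mem_centralizer_iff]
    constructor
    · intro h x hx
      exact h _ ⟨x, hx, rfl⟩
    · rintro h _ ⟨x, hx, rfl⟩
      exact h x hx
  have hPle : P ≤ (centralizer ((P.map π : Subgroup H) : Set H)).comap π ⊓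
      normalizer (P : Set G) := by
    refine le_inf (fun x hx => ?_) le_normalizer
    rw [hcen]
    exact fun y hy => map_comm hE π hker hy hx
  apply le_antisymm
  · set K := (centralizer ((P.map π : Subgroup H) : Set H)).comap π ⊓ normalizer (P : Set G) with hK
    have hE' : IsExtraspecial 3 (P.subgroupOf K) :=
      H446.ExtraAct.isExtraspecial_of_equiv (subgroupOfEquivOfLe hPle).symm hE
    have h1 : ⁅(⊤ : Subgroup K), P.subgroupOf K⁆ ≤
        P.subgroupOf K ⊓ centralizer (P.subgroupOf K : Set K) := by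
      rw [commutator_le]
      intro k _ x hx
      rw [mem_subgroupOf] at hx
      have hkK : (k : G) ∈ (centralizer ((P.map π : Subgroup H) : Set H)).comap π ⊓
        normalizer (P : Set G) := k.2
      rw [mem_inf, hcen] at hkK
      have h2 : (k : G) * x * (k : G)⁻¹ * (x : G)⁻¹ ∈ P :=
        mul_mem ((mem_normalizer_iff.1 hkK.2 _).1 hx) (inv_mem hx)
      have h3 : π ((k : G) * x * (k : G)⁻¹ * (x : G)⁻¹) = 1 := by
        have h4 := hkK.1 x hx
        rw [map_mul, map_mul, map_mul, map_inv, map_inv, ← h4]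
        group
      have h5 := (hker _ h2).1 h3
      refine mem_inf.2 ⟨h2, ?_⟩
      rw [mem_centralizer_iff]
      intro y hy
      exact Subtype.ext (h5 y hy).symm
    have h6 := Transfer.ExtraspecialProduct.sup_centralizer_eq_top (P.subgroupOf K) hE' h1
    intro n hn
    have h7 : (⟨n, hn⟩ : K) ∈ P.subgroupOf K ⊔ centralizer (P.subgroupOf K : Set K) := by
      rw [h6]; exact mem_top _
    have h8 : (P.subgroupOf K ⊔ centralizer (P.subgroupOf K : Set K)).map K.subtype ≤
        P ⊔ centralizer (P : Set G) := by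
      rw [Subgroup.map_sup]
      refine sup_le_sup ?_ ?_
      · rintro _ ⟨x, hx, rfl⟩
        exact hx
      · rintro _ ⟨x, hx, rfl⟩
        rw [mem_centralizer_iff]
        intro y hy
        exact congrArg Subtype.val (mem_centralizer_iff.1 hx ⟨y, hPle hy⟩ hy)
    exact h8 ⟨_, h7, rfl⟩
  · refine sup_le hPle fun c hc => mem_inf.2 ⟨?_, ?_⟩
    · rw [hcen]
      intro x hx
      rw [← map_mul, ← map_mul, mem_centralizer_iff.1 hc x hx]
    · exact H590.StLink.centralizer_le_normalizer' P hc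

/-- The inertial index. -/
theorem relIndex_eq (P : Sylow 3 G) (hE : IsExtraspecial 3 (P : Subgroup G)) (π : G →* H)
    (hπ : Function.Surjective π)
    (hker : ∀ x ∈ (P : Subgroup G), π x = 1 ↔ ∀ y ∈ (P : Subgroup G), x * y = y * x) :
    (centralizer (((P : Subgroup G).map π : Subgroup H) : Set H)).relIndex
      (normalizer (((P : Subgroup G).map π : Subgroup H) : Set H)) =
    ((P : Subgroup G) ⊔ centralizer ((P : Subgroup G) : Set G)).relIndex
      (normalizer ((P : Subgroup G) : Set G)) := by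
  rw [normalizer_map P π hπ, ← relIndex_comap, ← inf_relIndex_right, comap_inf hE π hker]

/-- The structure of the image. -/
theorem nine (P : Sylow 3 G) (hE : IsExtraspecial 3 (P : Subgroup G))
    (h27 : Nat.card (P : Subgroup G) = 27) (hexp : ∀ x ∈ (P : Subgroup G), x ^ 3 = 1)
    (hNC : ∀ g ∈ normalizer ((P : Subgroup G) : Set G), ∀ z ∈ (P : Subgroup G),
      (∀ y ∈ (P : Subgroup G), z * y = y * z) → g * z = z * g) (π : G →* H)
    (hπ : Function.Surjective π)
    (hker : ∀ x ∈ (P : Subgroup G), π x = 1 ↔ ∀ y ∈ (P : Subgroup G), x * y = y * x) :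
    NineBlock.Nine (P.mapSurjective hπ) := by
  have hfinH : Finite H := Finite.of_surjective π hπ
  have hcard := card_map hE h27 π hker
  refine ⟨hcard, ?_, ?_, ?_⟩
  · rintro _ ⟨x, hx, rfl⟩
    rw [← map_pow, hexp x hx, map_one]
  · rintro ⟨_, x, hx, rfl⟩ ⟨_, y, hy, rfl⟩
    exact Subtype.ext (map_comm hE π hker hx hy)
  · intro z hz hz1
    apply le_antisymm
    swap
    · refine le_inf (centralizer_le ?_) (H590.StLink.centralizer_le_normalizer' _)
      rw [Set.singleton_subset_iff]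
      exact hz
    rintro h hh
    obtain ⟨hh1, hh2⟩ := mem_inf.1 hh
    rw [mem_centralizer_singleton_iff] at hh1
    obtain ⟨n, hn, rfl⟩ := exists_normalizer P π hπ hh2
    obtain ⟨x, hx, rfl⟩ := hz
    -- `c = n x n⁻¹ x⁻¹` is central
    have hnx : n * x * n⁻¹ ∈ (P : Subgroup G) := (mem_normalizer_iff.1 hn x).1 hx
    have hc : n * x * n⁻¹ * x⁻¹ ∈ (P : Subgroup G) := mul_mem hnx (inv_mem hx)
    have hc1 : π (n * x * n⁻¹ * x⁻¹) = 1 := by
      have h1 : π n * π x = π x * π n := hh1
      rw [map_mul, map_mul, map_mul, map_inv, map_inv, h1]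
      group
    have hcc := (hker _ hc).1 hc1
    -- `n y n⁻¹ y⁻¹` centralizes `x`
    have hyx : ∀ y ∈ (P : Subgroup G), n * y * n⁻¹ * y⁻¹ ∈ (P : Subgroup G) ∧
        (n * y * n⁻¹ * y⁻¹) * x = x * (n * y * n⁻¹ * y⁻¹) := by
      intro y hy
      have hny : n * y * n⁻¹ ∈ (P : Subgroup G) := (mem_normalizer_iff.1 hn y).1 hy
      refine ⟨mul_mem hny (inv_mem hy), ?_⟩
      -- `[x, n y n⁻¹] = [x, y]`
      set w := x * y * x⁻¹ * y⁻¹ with hw
      have hwP : w ∈ (P : Subgroup G) :=
        mul_mem (mul_mem (mul_mem hx hy) (inv_mem hx)) (inv_mem hy)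
      have hwc : ∀ v ∈ (P : Subgroup G), w * v = v * w := fun v hv => comm_central hE hx hy hv
      have hnw : n * w = w * n := hNC n hn w hwP hwc
      set c := n * x * n⁻¹ * x⁻¹ with hcdef
      set y' := n * y * n⁻¹ with hy'
      have e1 : n * x * n⁻¹ = c * x := by rw [hcdef]; group
      have e2 : w = (c * x) * y' * (c * x)⁻¹ * y'⁻¹ := by
        have h1 : n * w * n⁻¹ = w := by rw [hnw]; group
        rw [← h1, hw, ← e1, hy']
        group
      have e3 : w = x * y' * x⁻¹ * y'⁻¹ := by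
        have h1 : c * (x * y') = (x * y') * c := hcc _ (mul_mem hx hny)
        calc w = (c * x) * y' * (c * x)⁻¹ * y'⁻¹ := e2
          _ = c * (x * y') * x⁻¹ * c⁻¹ * y'⁻¹ := by group
          _ = (x * y') * c * x⁻¹ * c⁻¹ * y'⁻¹ := by rw [h1]
          _ = (x * y') * (c * x⁻¹) * c⁻¹ * y'⁻¹ := by group
          _ = (x * y') * (x⁻¹ * c) * c⁻¹ * y'⁻¹ := by rw [hcc _ (inv_mem hx)]
          _ = x * y' * x⁻¹ * y'⁻¹ := by group
      -- `x y x⁻¹ = w y`, `x y' x⁻¹ = w y'`
      have e4 : x * y * x⁻¹ = w * y := by rw [hw]; group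
      have e5 : x * y' * x⁻¹ = w * y' := by rw [e3]; group
      have e6 : x * (y' * y⁻¹) * x⁻¹ = y' * y⁻¹ := by
        calc x * (y' * y⁻¹) * x⁻¹ = (x * y' * x⁻¹) * (x * y * x⁻¹)⁻¹ := by group
          _ = (w * y') * (w * y)⁻¹ := by rw [e4, e5]
          _ = (w * (y' * y⁻¹)) * w⁻¹ := by group
          _ = ((y' * y⁻¹) * w) * w⁻¹ := by rw [hwc _ (mul_mem hny (inv_mem hy))]
          _ = y' * y⁻¹ := by group
      rw [mul_inv_eq_iff_eq_mul] at e6
      exact e6.symm
    -- the image of `C_P(x)`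
    set F : Subgroup H := ((P : Subgroup G) ⊓ centralizer ({x} : Set G)).map π with hF
    have hFQ : F ≤ (P : Subgroup G).map π := map_mono inf_le_left
    have hxF : π x ∈ F := ⟨x, mem_inf.2 ⟨hx, by rw [mem_centralizer_singleton_iff]⟩, rfl⟩
    have hFne : F ≠ (P : Subgroup G).map π := by
      intro h1
      apply hz1
      rw [hker x hx]
      intro y hy
      have h2 : π y ∈ F := by rw [h1]; exact ⟨y, hy, rfl⟩
      obtain ⟨c, hc, hcy⟩ := h2
      obtain ⟨hcP, hcx⟩ := mem_inf.1 hc
      rw [mem_centralizer_singleton_iff] at hcx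
      have h3 : π (c⁻¹ * y) = 1 := by rw [map_mul, map_inv, hcy]; group
      have h4 := (hker _ (mul_mem (inv_mem hcP) hy)).1 h3 x hx
      calc x * y = (x * c) * (c⁻¹ * y) := by group
        _ = (c * x) * (c⁻¹ * y) := by rw [hcx]
        _ = c * (x * (c⁻¹ * y)) := by group
        _ = c * ((c⁻¹ * y) * x) := by rw [h4]
        _ = y * x := by group
    have hFcard : Nat.card F = 3 := by
      have h1 : Nat.card F ∣ 9 := by
        rw [← hcard]
        exact card_dvd_of_le hFQ
      have h2 : Nat.card F ≠ 9 := by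
        intro h2
        apply hFne
        apply SetLike.coe_injective
        apply Set.eq_of_subset_of_ncard_le hFQ
        rw [← Nat.card_coe_set_eq, ← Nat.card_coe_set_eq]
        exact (hcard.trans h2.symm).le
      have h3 : Nat.card F ≠ 1 := by
        intro h3
        rw [card_eq_one] at h3
        rw [h3, mem_bot] at hxF
        exact hz1 hxF
      have h4 : Nat.card F ≤ 9 := Nat.le_of_dvd (by norm_num) h1
      interval_cases Nat.card F <;> omega
    have hox : orderOf (π x) = 3 := by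
      refine orderOf_eq_prime ?_ hz1
      rw [← map_pow, hexp x hx, map_one]
    have hFz : F = zpowers (π x) := by
      symm
      apply SetLike.coe_injective
      have h1 : zpowers (π x) ≤ F := by rwa [zpowers_le]
      apply Set.eq_of_subset_of_ncard_le h1
      rw [← Nat.card_coe_set_eq, ← Nat.card_coe_set_eq]
      exact (hFcard.trans (by rw [← hox]; exact (Nat.card_zpowers _).symm)).le
    -- `π n` acts on the image as a unipotent element
    have hcomm : ∀ q ∈ (P : Subgroup G).map π, ∃ f ∈ F, π n * q * (π n)⁻¹ = f * q ∧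
        π n * f = f * π n ∧ f * q = q * f ∧ f ^ 3 = 1 := by
      rintro _ ⟨y, hy, rfl⟩
      obtain ⟨h1, h2⟩ := hyx y hy
      have hf : π (n * y * n⁻¹ * y⁻¹) ∈ F :=
        ⟨_, mem_inf.2 ⟨h1, by rw [mem_centralizer_singleton_iff]; exact h2⟩, rfl⟩
      refine ⟨_, hf, ?_, ?_, map_comm hE π hker h1 hy, ?_⟩
      · rw [map_mul _ (n * y * n⁻¹), map_mul, map_mul, map_inv, map_inv]
        group
      · rw [hFz] at hf
        obtain ⟨k, hk⟩ := mem_zpowers_iff.1 hf
        rw [← hk]
        exact (Commute.zpow_right (show Commute (π n) (π x) from hh1) k).eq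
      · rw [← map_pow, hexp _ h1, map_one]
    have hcube : (π n) ^ 3 ∈ centralizer (((P : Subgroup G).map π : Subgroup H) : Set H) := by
      rw [mem_centralizer_iff]
      intro q hq
      obtain ⟨f, hf, h1, h2, h3, h4⟩ := hcomm q hq
      set m := π n
      have e1 : m * q = f * q * m := by rw [← h1]; group
      have e2 : m ^ 3 * q = q * m ^ 3 := by
        calc m ^ 3 * q = m * (m * (m * q)) := by simp only [pow_succ, pow_zero, one_mul, mul_assoc]
          _ = m * (m * (f * q * m)) := by rw [e1]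
          _ = m * ((m * f) * q * m) := by group
          _ = m * (f * (m * q) * m) := by rw [h2]; group
          _ = m * (f * (f * q * m) * m) := by rw [e1]
          _ = (m * f) * f * q * m * m := by group
          _ = (f * m) * f * q * m * m := by rw [h2]
          _ = f * (m * f) * q * m * m := by group
          _ = f * (f * m) * q * m * m := by rw [h2]
          _ = f * f * (m * q) * m * m := by group
          _ = f * f * (f * q * m) * m * m := by rw [e1]
          _ = f ^ 3 * q * m ^ 3 := by simp only [pow_succ, pow_zero, one_mul, mul_assoc]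
          _ = q * m ^ 3 := by rw [h4, one_mul]
      exact e2.symm
    -- the index is prime to `3`
    have hidx : ¬ 3 ∣ (centralizer (((P : Subgroup G).map π : Subgroup H) : Set H)).relIndex
        (normalizer (((P : Subgroup G).map π : Subgroup H) : Set H)) := by
      intro hd
      have h1 : (P : Subgroup G).map π ≤
          centralizer (((P : Subgroup G).map π : Subgroup H) : Set H) := by
        rintro _ ⟨x, hx, rfl⟩
        rw [mem_centralizer_iff]
        rintro _ ⟨y, hy, rfl⟩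
        exact map_comm hE π hker hy hx
      have h2 : (centralizer (((P : Subgroup G).map π : Subgroup H) : Set H)).relIndex
          (normalizer (((P : Subgroup G).map π : Subgroup H) : Set H)) ∣
            ((P : Subgroup G).map π).index :=
        (relIndex_dvd_index_of_le
          (H590.StLink.centralizer_le_normalizer' _)).trans (index_dvd_of_le h1)
      exact (P.mapSurjective hπ).not_dvd_index (hd.trans h2)
    -- conclusion in the quotient
    have hle := H590.StLink.centralizer_le_normalizer' ((P : Subgroup G).map π)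
    set C := centralizer (((P : Subgroup G).map π : Subgroup H) : Set H) with hC
    set N := normalizer (((P : Subgroup G).map π : Subgroup H) : Set H) with hN
    have hnorm : (C.subgroupOf N).Normal := by
      constructor
      intro a ha b
      rw [mem_subgroupOf, hC, mem_centralizer_iff] at ha ⊢
      intro q hq
      have hb := mem_normalizer_iff.1 (inv_mem b.2) q
      have h1 := ha _ (hb.1 hq)
      have h2 : (b : H)⁻¹ * q * ((b : H)⁻¹)⁻¹ * (a : H) = a * ((b : H)⁻¹ * q * ((b : H)⁻¹)⁻¹) := h1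
      rw [inv_inv] at h2
      change q * ((b : H) * a * (b : H)⁻¹) = (b : H) * a * (b : H)⁻¹ * q
      calc q * ((b : H) * a * (b : H)⁻¹) = b * ((b : H)⁻¹ * q * b * a) * (b : H)⁻¹ := by group
        _ = b * (a * ((b : H)⁻¹ * q * b)) * (b : H)⁻¹ := by rw [h2]
        _ = (b : H) * a * (b : H)⁻¹ * q := by group
    have h1 : (QuotientGroup.mk (⟨π n, hh2⟩ : N) : N ⧸ C.subgroupOf N) ^ 3 = 1 := by
      rw [← QuotientGroup.mk_pow, QuotientGroup.eq_one_iff]
      exact hcube
    have h2 : orderOf (QuotientGroup.mk (⟨π n, hh2⟩ : N) : N ⧸ C.subgroupOf N) ∣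
        Nat.card (N ⧸ C.subgroupOf N) := _root_.orderOf_dvd_natCard _
    have h3 : orderOf (QuotientGroup.mk (⟨π n, hh2⟩ : N) : N ⧸ C.subgroupOf N) = 1 := by
      rcases (Nat.dvd_prime Nat.prime_three).1 (orderOf_dvd_of_pow_eq_one h1) with h | h
      · exact h
      · rw [h] at h2
        exact absurd h2 hidx
    rw [orderOf_eq_one_iff, QuotientGroup.eq_one_iff] at h3
    exact h3

end Cfsg.Agent.H657.E27Local
end

-- part: H657/E27Main
section
/-!
# The principal `3`-block for an extraspecial Sylow `3`-subgroup of order `27` and exponent `3`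

The assembly: from `InZStar 3 z` and the facts on central extensions to the invariants.
-/

set_option autoImplicit false
set_option linter.unusedSectionVars false

open Subgroup Cfsg

namespace Cfsg.Agent.H657.E27Main

universe u

/-- What is needed about the central extension. -/
structure Central (M : Ideal AlgInt) (K : Type u) [Group K] (w : K) [(zpowers w).Normal] : Prop where
  rank : blockRank 3 (principalBlock M K) = blockRank 3 (principalBlock M (K ⧸ zpowers w))
  card : Nat.card (principalBlock M K) = Nat.card (principalBlock M (K ⧸ zpowers w)) +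
    2 * blockRank 3 (principalBlock M K)
  height : (∀ χ ∈ principalBlock M (K ⧸ zpowers w), ¬ 3 ∣ charDegree (χ : K ⧸ zpowers w → ℂ)) →
    Nat.card {χ : IrrCharacter K // χ ∈ principalBlock M K ∧
      blockHeight 3 (principalBlock M K) (χ : K → ℂ) = 0} =
    Nat.card (principalBlock M (K ⧸ zpowers w))
  nine : Nat.card (principalBlock M (K ⧸ zpowers w)) = 9 → ∀ eps : IrrCharacter (K ⧸ zpowers w) → ℤ,
    (∀ χ ∈ principalBlock M (K ⧸ zpowers w), eps χ = 1 ∨ eps χ = -1) →
    (∀ χ ∈ principalBlock M (K ⧸ zpowers w), ∀ h : K ⧸ zpowers w, 3 ∣ orderOf h →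
      (χ : K ⧸ zpowers w → ℂ) h = eps χ) → False

/-- The hypotheses on the central extension. -/
structure Data {K : Type u} [Group K] (R : Sylow 3 K) (w : K) : Prop where
  center : w ∈ Subgroup.center K
  order : orderOf w = 3
  card : Nat.card (R : Subgroup K) = 27
  exp : ∀ x ∈ (R : Subgroup K), x ^ 3 = 1
  conj : ∀ x ∈ (R : Subgroup K), x ∉ zpowers w → ∃ g : K, g * x * g⁻¹ = x * w

variable {G : Type u} [Group G] [Finite G] (P : Sylow 3 G)

/-- The center of `P`. -/
theorem mem_zpowers_of {P : Subgroup G} (hE : IsExtraspecial 3 P) {z : G} (hz : z ∈ P)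
    (hz1 : z ≠ 1) (hzc : ∀ y ∈ P, z * y = y * z) {x : G} (hx : x ∈ P)
    (hxc : ∀ y ∈ P, x * y = y * x) : x ∈ zpowers z := by
  have hcen : ∀ {y : G} (hy : y ∈ P), (∀ v ∈ P, y * v = v * y) → (⟨y, hy⟩ : P) ∈ center P := by
    intro y hy h
    rw [mem_center_iff]
    exact fun v => Subtype.ext (h v v.2).symm
  have h1 : zpowers (⟨z, hz⟩ : P) = center P := by
    have h2 : zpowers (⟨z, hz⟩ : P) ≤ center P := by
      rw [zpowers_le]
      exact hcen hz hzc
    apply SetLike.coe_injective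
    apply Set.eq_of_subset_of_ncard_le h2
    rw [← Nat.card_coe_set_eq, ← Nat.card_coe_set_eq]
    have h3 : Nat.card (zpowers (⟨z, hz⟩ : P)) ∣ 3 := by
      rw [← hE.2]
      exact card_dvd_of_le h2
    have h4 : Nat.card (zpowers (⟨z, hz⟩ : P)) ≠ 1 := by
      intro h5
      rw [card_eq_one, zpowers_eq_bot] at h5
      exact hz1 (congrArg Subtype.val h5)
    have h5 : Nat.card (zpowers (⟨z, hz⟩ : P)) = 3 :=
      ((Nat.dvd_prime Nat.prime_three).1 h3).resolve_left h4
    exact (hE.2.trans h5.symm).le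
  have h2 := hcen hx hxc
  rw [← h1, mem_zpowers_iff] at h2
  obtain ⟨k, hk⟩ := h2
  exact mem_zpowers_iff.2 ⟨k, congrArg Subtype.val hk⟩

theorem exists_central {P : Subgroup G} (hE : IsExtraspecial 3 P) :
    ∃ z ∈ P, z ≠ 1 ∧ ∀ y ∈ P, z * y = y * z := by
  have h1 : Nontrivial (center P) := by
    rw [← Finite.one_lt_card_iff_nontrivial, hE.2]
    norm_num
  obtain ⟨z, hz⟩ := exists_ne (1 : center P)
  refine ⟨z, (z : P).2, fun h => hz (Subtype.ext (Subtype.ext h)), fun y hy => ?_⟩
  exact (congrArg Subtype.val (mem_center_iff.1 z.2 ⟨y, hy⟩)).symm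

/-- The kernel of `P → G / O_{3'}(G)` is trivial. -/
theorem eq_one_of_mem {x : G} (hx : x ∈ (P : Subgroup G)) (hxN : x ∈ pPrimeCore 3 G) : x = 1 := by
  obtain ⟨k, hk⟩ := P.isPGroup' ⟨x, hx⟩
  have hk' : x ^ 3 ^ k = 1 := by simpa only [_root_.SubmonoidClass.mk_pow, _root_.OneMemClass.coe_one] using congrArg Subtype.val hk
  have h1 : orderOf x ∣ 3 ^ k := orderOf_dvd_of_pow_eq_one hk'
  have h2 : orderOf x ∣ Nat.card (pPrimeCore 3 G) := by
    have := _root_.orderOf_dvd_natCard (⟨x, hxN⟩ : pPrimeCore 3 G)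
    rwa [← orderOf_coe] at this
  have h3 : Nat.Coprime (3 ^ k) (Nat.card (pPrimeCore 3 G)) :=
    Nat.Coprime.pow_left _ (Lib.Cores.pPrimeCore_coprime (G := G) 3).symm
  exact orderOf_eq_one_iff.1 (Nat.eq_one_of_dvd_coprimes h3 h1 h2)

/-- The data of the central extension. -/
theorem data (hE : IsExtraspecial 3 (P : Subgroup G)) (h27 : Nat.card (P : Subgroup G) = 27)
    (hexp : ∀ x ∈ (P : Subgroup G), x ^ 3 = 1) {z : G} (hz : z ∈ (P : Subgroup G)) (hz1 : z ≠ 1)
    (hzc : ∀ y ∈ (P : Subgroup G), z * y = y * z) (hZ : InZStar 3 z) :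
    Data (P.mapSurjective (QuotientGroup.mk'_surjective (pPrimeCore 3 G)))
      (QuotientGroup.mk z : G ⧸ pPrimeCore 3 G) := by
  set N := pPrimeCore 3 G with hN
  have hinj : ∀ x ∈ (P : Subgroup G), (QuotientGroup.mk x : G ⧸ N) = 1 → x = 1 := by
    intro x hx h
    rw [QuotientGroup.eq_one_iff] at h
    exact eq_one_of_mem P hx h
  refine ⟨?_, ?_, ?_, ?_, ?_⟩
  · rw [mem_center_iff]
    intro g
    obtain ⟨g, rfl⟩ := QuotientGroup.mk_surjective g
    have h1 : (QuotientGroup.mk (g * z * g⁻¹ * z⁻¹) : G ⧸ N) = 1 := by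
      rw [QuotientGroup.eq_one_iff]
      exact hZ g
    simp only [QuotientGroup.mk_mul, QuotientGroup.mk_inv] at h1
    rw [mul_inv_eq_one, mul_inv_eq_iff_eq_mul] at h1
    exact h1
  · refine orderOf_eq_prime ?_ fun h => hz1 (hinj z hz h)
    rw [← QuotientGroup.mk_pow, hexp z hz, QuotientGroup.mk_one]
  · have h1 : ((P : Subgroup G) ⊓ N) = ⊥ := by
      rw [eq_bot_iff]
      intro x hx
      exact mem_bot.2 (eq_one_of_mem P hx.1 hx.2)
    have h2 : Function.Injective ((QuotientGroup.mk' N).comp (P : Subgroup G).subtype) := by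
      rw [injective_iff_map_eq_one]
      intro x hx
      exact Subtype.ext (hinj x x.2 hx)
    have h3 : ((QuotientGroup.mk' N).comp (P : Subgroup G).subtype).range =
        (P : Subgroup G).map (QuotientGroup.mk' N) := by
      rw [MonoidHom.range_comp, range_subtype]
    rw [Sylow.coe_mapSurjective, ← h3, ← h27]
    exact (Nat.card_congr (MonoidHom.ofInjective h2).toEquiv).symm
  · rintro _ ⟨x, hx, rfl⟩
    rw [← map_pow, hexp x hx, map_one]
  · rintro _ ⟨x, hx, rfl⟩ hxz
    have hxc : ¬ ∀ y ∈ (P : Subgroup G), x * y = y * x := by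
      intro h
      obtain ⟨k, hk⟩ := mem_zpowers_iff.1 (mem_zpowers_of hE hz hz1 hzc hx h)
      apply hxz
      rw [← hk]
      exact mem_zpowers_iff.2 ⟨k, rfl⟩
    push Not at hxc
    obtain ⟨y, hy, hxy⟩ := hxc
    set w := y * x * y⁻¹ * x⁻¹ with hw
    have hwP : w ∈ (P : Subgroup G) := mul_mem (mul_mem (mul_mem hy hx) (inv_mem hy)) (inv_mem hx)
    have hwc : ∀ v ∈ (P : Subgroup G), w * v = v * w := fun v hv =>
      E27Local.comm_central hE hy hx hv
    have hw1 : w ≠ 1 := by
      intro h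
      rw [hw, mul_inv_eq_one, mul_inv_eq_iff_eq_mul] at h
      exact hxy h.symm
    obtain ⟨k, hk⟩ := mem_zpowers_iff.1 (mem_zpowers_of hE hwP hw1 hwc hz hzc)
    have h1 : y * x * y⁻¹ = w * x := by rw [hw]; group
    have h2 : ∀ n : ℕ, y ^ n * x * (y ^ n)⁻¹ = w ^ n * x := by
      intro n
      induction n with
      | zero => simp
      | succ n ih =>
        have h3 : y * w = w * y := (hwc y hy).symm
        have h4 : y * w ^ n = w ^ n * y := (Commute.pow_right h3 n).eq
        calc y ^ (n + 1) * x * (y ^ (n + 1))⁻¹ = y * (y ^ n * x * (y ^ n)⁻¹) * y⁻¹ := by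
              rw [pow_succ']; group
          _ = y * (w ^ n * x) * y⁻¹ := by rw [ih]
          _ = (y * w ^ n) * x * y⁻¹ := by group
          _ = w ^ n * (y * x * y⁻¹) := by rw [h4]; group
          _ = w ^ (n + 1) * x := by rw [h1, ← mul_assoc, ← pow_succ]
    have hk' : ∃ n : ℕ, w ^ n = z := by
      have h3 := hexp w hwP
      refine ⟨(k % 3).toNat, ?_⟩
      rw [← hk, ← zpow_natCast, Int.toNat_of_nonneg (Int.emod_nonneg _ (by norm_num))]
      conv_rhs => rw [← Int.emod_add_mul_ediv k 3, zpow_add, zpow_mul]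
      have h4 : w ^ (3 : ℤ) = 1 := by exact_mod_cast h3
      rw [h4, one_zpow, mul_one]
    obtain ⟨n, hn⟩ := hk'
    refine ⟨QuotientGroup.mk (y ^ n), ?_⟩
    have h5 := h2 n
    rw [hn, hzc x hx] at h5
    exact congrArg (QuotientGroup.mk : G → G ⧸ N) h5

/-- The kernel of the map to the quotient of `G / O_{3'}(G)` by the image of `z`. -/
theorem map_eq_one_iff (hE : IsExtraspecial 3 (P : Subgroup G)) {z : G}
    (hz : z ∈ (P : Subgroup G)) (hz1 : z ≠ 1) (hzc : ∀ y ∈ (P : Subgroup G), z * y = y * z)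
    [(zpowers (QuotientGroup.mk z : G ⧸ pPrimeCore 3 G)).Normal] {x : G}
    (hx : x ∈ (P : Subgroup G)) :
    ((QuotientGroup.mk' (zpowers (QuotientGroup.mk z : G ⧸ pPrimeCore 3 G))).comp
      (QuotientGroup.mk' (pPrimeCore 3 G))) x = 1 ↔ ∀ y ∈ (P : Subgroup G), x * y = y * x := by
  rw [MonoidHom.comp_apply, QuotientGroup.mk'_apply, QuotientGroup.eq_one_iff,
    QuotientGroup.mk'_apply]
  constructor
  · intro h
    obtain ⟨k, hk⟩ := mem_zpowers_iff.1 h
    have h1 : (QuotientGroup.mk ((z ^ k)⁻¹ * x) : G ⧸ pPrimeCore 3 G) = 1 := by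
      rw [QuotientGroup.mk_mul, QuotientGroup.mk_inv, QuotientGroup.mk_zpow, hk]
      group
    rw [QuotientGroup.eq_one_iff] at h1
    have h2 := eq_one_of_mem P (mul_mem (inv_mem (zpow_mem hz k)) hx) h1
    rw [inv_mul_eq_one] at h2
    intro y hy
    rw [← h2]
    exact (Commute.zpow_left (show Commute z y from hzc y hy) k).eq
  · intro h
    obtain ⟨k, hk⟩ := mem_zpowers_iff.1 (mem_zpowers_of hE hz hz1 hzc hx h)
    rw [← hk]
    exact mem_zpowers_iff.2 ⟨k, rfl⟩

variable {M : Ideal AlgInt}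

/-- The numbers for the quotient. -/
theorem count (hM : IsPModular 3 M) {H : Type u} [Group H] [Finite H] {Q : Sylow 3 H}
    (hQ : NineBlock.Nine Q) {e : ℕ}
    (he : (centralizer ((Q : Subgroup H) : Set H)).relIndex
      (normalizer ((Q : Subgroup H) : Set H)) = e) (h8 : e = 1 ∨ e = 2 ∨ e = 4 ∨ e = 8)
    (hno : Nat.card (principalBlock M H) = 9 → ∀ eps : IrrCharacter H → ℤ,
      (∀ χ ∈ principalBlock M H, eps χ = 1 ∨ eps χ = -1) →
      (∀ χ ∈ principalBlock M H, ∀ h : H, 3 ∣ orderOf h → (χ : H → ℂ) h = eps χ) → False) :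
    (∀ χ ∈ principalBlock M H, ¬ 3 ∣ charDegree (χ : H → ℂ)) ∧
    (e = 1 ∧ Nat.card (principalBlock M H) = 9 ∧ blockRank 3 (principalBlock M H) = 1 ∨
     e = 2 ∧ Nat.card (principalBlock M H) = 6 ∧ blockRank 3 (principalBlock M H) = 2 ∨
     e = 4 ∧ Nat.card (principalBlock M H) = 6 ∧ blockRank 3 (principalBlock M H) = 4 ∨
     e = 8 ∧ Nat.card (principalBlock M H) = 6 ∧ blockRank 3 (principalBlock M H) = 5) := by
  have hk := NineBlock.mul_card hM hQ
  rw [he] at hk
  have h9 : Nat.card (principalBlock M H) = (if e = 1 then 9 else 6) ∧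
      ∀ χ ∈ principalBlock M H, ¬ 3 ∣ charDegree (χ : H → ℂ) := by
    by_cases h8' : e = 8
    · subst h8'
      obtain ⟨a, h1, h2⟩ := NineBlock.eight hM hQ he
      refine ⟨?_, fun χ hχ => (h1 χ hχ).1⟩
      rcases h2 with h2 | ⟨h2, h3⟩
      · rw [h2]; norm_num
      · exact (hno h2 a h3 fun χ hχ => (h1 χ hχ).2).elim
    · obtain ⟨h1, h2⟩ := NineBlock.small hM hQ he (by (clear * - h8 h8'; omega))
      refine ⟨?_, h2⟩
      rw [h1]
      rcases h8 with rfl | rfl | rfl | rfl
      · norm_num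
      · norm_num
      · norm_num
      · exact absurd rfl h8'
  refine ⟨h9.2, ?_⟩
  rw [h9.1] at hk ⊢
  rcases h8 with rfl | rfl | rfl | rfl
  · left; norm_num at hk ⊢; omega
  · right; left; norm_num at hk ⊢; omega
  · right; right; left; norm_num at hk ⊢; omega
  · right; right; right; norm_num at hk ⊢; omega

/-- The invariants, for a group with data. -/
theorem invariants (hM : IsPModular 3 M) (hE : IsExtraspecial 3 (P : Subgroup G))
    (h27 : Nat.card (P : Subgroup G) = 27) (hexp : ∀ x ∈ (P : Subgroup G), x ^ 3 = 1)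
    (hNC : ∀ g ∈ normalizer ((P : Subgroup G) : Set G), ∀ z ∈ (P : Subgroup G),
      (∀ y ∈ (P : Subgroup G), z * y = y * z) → g * z = z * g)
    (N : Subgroup G) [N.Normal] (w : G ⧸ N) [(zpowers w).Normal]
    (hker : ∀ x ∈ (P : Subgroup G), ((QuotientGroup.mk' (zpowers w)).comp
      (QuotientGroup.mk' N)) x = 1 ↔ ∀ y ∈ (P : Subgroup G), x * y = y * x)
    (hcen : Central M (G ⧸ N) w) {e : ℕ}
    (he : ((P : Subgroup G) ⊔ centralizer ((P : Subgroup G) : Set G)).relIndex
      (normalizer ((P : Subgroup G) : Set G)) = e) (h8 : e = 1 ∨ e = 2 ∨ e = 4 ∨ e = 8) :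
    (∀ χ ∈ principalBlock M ((G ⧸ N) ⧸ zpowers w),
      ¬ 3 ∣ charDegree (χ : (G ⧸ N) ⧸ zpowers w → ℂ)) ∧
    (e = 1 ∧ Nat.card (principalBlock M ((G ⧸ N) ⧸ zpowers w)) = 9 ∧
      blockRank 3 (principalBlock M ((G ⧸ N) ⧸ zpowers w)) = 1 ∨
     e = 2 ∧ Nat.card (principalBlock M ((G ⧸ N) ⧸ zpowers w)) = 6 ∧
      blockRank 3 (principalBlock M ((G ⧸ N) ⧸ zpowers w)) = 2 ∨
     e = 4 ∧ Nat.card (principalBlock M ((G ⧸ N) ⧸ zpowers w)) = 6 ∧
      blockRank 3 (principalBlock M ((G ⧸ N) ⧸ zpowers w)) = 4 ∨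
     e = 8 ∧ Nat.card (principalBlock M ((G ⧸ N) ⧸ zpowers w)) = 6 ∧
      blockRank 3 (principalBlock M ((G ⧸ N) ⧸ zpowers w)) = 5) := by
  have hπ : Function.Surjective ((QuotientGroup.mk' (zpowers w)).comp (QuotientGroup.mk' N)) :=
    (QuotientGroup.mk'_surjective _).comp (QuotientGroup.mk'_surjective _)
  exact count hM (E27Local.nine P hE h27 hexp hNC _ hπ hker)
    ((E27Local.relIndex_eq P hE _ hπ hker).trans he) h8 hcen.nine

/-- The invariants. -/
theorem main (hM : IsPModular 3 M) (hE : IsExtraspecial 3 (P : Subgroup G))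
    (h27 : Nat.card (P : Subgroup G) = 27) (hexp : ∀ x ∈ (P : Subgroup G), x ^ 3 = 1)
    (hNC : ∀ g ∈ normalizer ((P : Subgroup G) : Set G), ∀ z ∈ (P : Subgroup G),
      (∀ y ∈ (P : Subgroup G), z * y = y * z) → g * z = z * g)
    {z : G} (hz : z ∈ (P : Subgroup G)) (hz1 : z ≠ 1)
    (hzc : ∀ y ∈ (P : Subgroup G), z * y = y * z) (hZ : InZStar 3 z)
    (hC : ∀ {K : Type u} [Group K] [Finite K] (R : Sylow 3 K) (w : K) [(zpowers w).Normal],
      Data R w → Central M K w) {e : ℕ}
    (he : ((P : Subgroup G) ⊔ centralizer ((P : Subgroup G) : Set G)).relIndex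
      (normalizer ((P : Subgroup G) : Set G)) = e) (h8 : e = 1 ∨ e = 2 ∨ e = 4 ∨ e = 8) :
    ∃ k l : ℕ, (e = 1 ∧ k = 9 ∧ l = 1 ∨ e = 2 ∧ k = 6 ∧ l = 2 ∨ e = 4 ∧ k = 6 ∧ l = 4 ∨
        e = 8 ∧ k = 6 ∧ l = 5) ∧
      Nat.card (principalBlock M G) = k + 2 * l ∧
      Nat.card {χ : IrrCharacter G // χ ∈ principalBlock M G ∧
        blockHeight 3 (principalBlock M G) (χ : G → ℂ) = 0} = k ∧
      blockRank 3 (principalBlock M G) = l := by
  have hNp : ¬ 3 ∣ Nat.card (pPrimeCore 3 G) :=
    (Nat.Prime.coprime_iff_not_dvd Nat.prime_three).1 (Lib.Cores.pPrimeCore_coprime (G := G) 3).symm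
  have hdata := data P hE h27 hexp hz hz1 hzc hZ
  have hnorm : (zpowers (QuotientGroup.mk z : G ⧸ pPrimeCore 3 G)).Normal := by
    constructor
    intro a ha g
    have h1 : a ∈ center (G ⧸ pPrimeCore 3 G) := (zpowers_le.2 hdata.center) ha
    rw [mem_center_iff.1 h1 g]
    simpa using ha
  have hcen := hC _ _ hdata
  obtain ⟨h1, h2⟩ := invariants P hM hE h27 hexp hNC (pPrimeCore 3 G)
    (QuotientGroup.mk z : G ⧸ pPrimeCore 3 G)
    (fun x hx => map_eq_one_iff P hE hz hz1 hzc hx) hcen he h8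
  refine ⟨_, _, h2, ?_, ?_, ?_⟩
  · rw [PrinQuot.card_eq hM (pPrimeCore 3 G) hNp, hcen.card, hcen.rank]
  · rw [PrinQuot.card_height_eq hM (pPrimeCore 3 G) hNp, hcen.height h1]
  · rw [PrinQuot.blockRank_eq hM (pPrimeCore 3 G) hNp, hcen.rank]

end Cfsg.Agent.H657.E27Main
end
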